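import Cfsg.Agent.Lib.NoDivDeg.Ramified

/-!
All non-linear irreducible characters of `L` have the same degree.
-/

set_option autoImplicit false

namespace Cfsg.Agent.Lib.NoDivDeg

open Cfsg
open Cfsg.Agent.Lib
open scoped commutatorElement ComplexConjugate

variable {L : Type*} [Group L] [Fintype L]

namespace Hyp

variable {τ : MulAut L} {q k s : ℕ} {x u w : L}

theorem derived_commutative (h : Hyp L τ q k s x u w) [Group.IsSolvable L] {p : ℕ} (hp : p.Prime)
    (hP : IsPGroup p (commutator L)) (hidx : ¬ p ∣ (rho L).ker.index)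
    (hker : ∀ ν : Dual L, ν ≠ 1 → ∀ l, rho L l ν = ν → rho L l = 1)
    (hdeg : ∃ θ : IrrCharacter L, (θ : L → ℂ) 1 = ((rho L).ker.index : ℂ))
    (hm : (rho L).ker.index ≠ 1)
    (hnum : ∀ n : ℕ, 1 ≤ n → (fixRho τ).index ∣ p ^ n - 1 → Nat.card (Dual L) ≤ p ^ n) :
    commutator (commutator L) = ⊥ := by
  classical
  by_contra hne
  have := Fintype.ofFinite (commutator L)
  set C := commutator (commutator L) with hC
  have := Fintype.ofFinite C
  have := Fact.mk hp
  have : Nontrivial (commutator L) := by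
    by_contra hn
    rw [not_nontrivial_iff_subsingleton] at hn
    exact hne (Subgroup.eq_bot_of_subsingleton C)
  have : Group.IsNilpotent (commutator L) := hP.isNilpotent
  set Z : Subgroup (commutator L) := ⁅C, (⊤ : Subgroup (commutator L))⁆ with hZ
  have hZC : Z ≤ C := Subgroup.commutator_le_left C ⊤
  have hZne : Z ≠ C := by
    intro hEq
    refine hne (eq_bot_iff.mpr ?_)
    obtain ⟨n, hn⟩ := Subgroup.nilpotent_iff_lowerCentralSeries.mp
      (inferInstance : Group.IsNilpotent (commutator L))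
    suffices ∀ n, C ≤ Subgroup.lowerCentralSeries (⊤ : Subgroup (commutator L)) n from
      hn ▸ this n
    intro n
    induction n with
    | zero => exact le_top.trans (Subgroup.lowerCentralSeries_zero _).ge
    | succ n ih =>
      rw [Subgroup.lowerCentralSeries_succ]
      exact hEq.ge.trans (Subgroup.commutator_mono ih le_top)
  -- the characters of `C` trivial on `Z`
  let M : Subgroup (C →* ℂˣ) :=
    { carrier := {μ | ∀ z : C, (z : commutator L) ∈ Z → μ z = 1}
      one_mem' := fun _ _ => rfl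
      mul_mem' := fun {a b} ha hb z hz => by rw [MonoidHom.mul_apply, ha z hz, hb z hz, one_mul]
      inv_mem' := fun {a} ha z hz => by rw [MonoidHom.inv_apply, ha z hz, inv_one] }
  have : Finite (C →* ℂˣ) := Finite.of_injective _ Chars.linIrr_injective
  have hinvar : ∀ μ ∈ M, ∀ (g : commutator L) (c : C),
      μ ⟨g * c * g⁻¹, (inferInstance : C.Normal).conj_mem _ c.2 g⟩ = μ c := by
    intro μ hμ g c
    have hz : ⁅(c : commutator L), g⁆ ∈ Z :=
      Subgroup.commutator_mem_commutator c.2 (Subgroup.mem_top g)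
    have e : (⟨g * c * g⁻¹, (inferInstance : C.Normal).conj_mem _ c.2 g⟩ : C) =
        ⟨⁅(c : commutator L), g⁆, hZC hz⟩⁻¹ * c := Subtype.ext (by
      simp only [Subgroup.coe_mul, Subgroup.coe_inv, commutatorElement_def]; group)
    rw [e, map_mul, map_inv, hμ _ hz, inv_one, one_mul]
  -- a non-trivial one
  have hMne : M ≠ ⊥ := by
    intro hbot
    refine hZne (le_antisymm hZC fun z hz => ?_)
    have hCC : commutator C ≤ Z.subgroupOf C := by
      refine Subgroup.commutator_le.mpr fun a _ b _ => ?_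
      exact Subgroup.commutator_mem_commutator a.2 (Subgroup.mem_top (b : commutator L))
    by_contra hzZ
    have : (Z.subgroupOf C).Normal := inferInstance
    have hq : (QuotientGroup.mk' (Z.subgroupOf C)) ⟨z, hz⟩ ∉ commutator (C ⧸ Z.subgroupOf C) := by
      intro hmem
      have htriv : commutator (C ⧸ Z.subgroupOf C) = ⊥ := by
        refine Subgroup.commutator_eq_bot_iff_le_centralizer.mpr fun a _ => ?_
        obtain ⟨a, rfl⟩ := QuotientGroup.mk'_surjective _ a
        refine Subgroup.mem_centralizer_iff.mpr fun b _ => ?_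
        obtain ⟨b, rfl⟩ := QuotientGroup.mk'_surjective _ b
        rw [← commutatorElement_eq_one_iff_mul_comm, ← map_commutatorElement,
          QuotientGroup.mk'_apply, QuotientGroup.eq_one_iff]
        exact hCC (Subgroup.commutator_mem_commutator (Subgroup.mem_top b) (Subgroup.mem_top a))
      rw [htriv, Subgroup.mem_bot, QuotientGroup.mk'_apply, QuotientGroup.eq_one_iff] at hmem
      exact hzZ hmem
    refine hq (mem_commutator_of_forall_hom fun κ => ?_)
    have hκ : κ.comp (QuotientGroup.mk' (Z.subgroupOf C)) ∈ M := fun y hy => by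
      rw [MonoidHom.comp_apply, QuotientGroup.mk'_apply, (QuotientGroup.eq_one_iff y).mpr hy,
        map_one]
    rw [hbot, Subgroup.mem_bot] at hκ
    exact DFunLike.congr_fun hκ ⟨z, hz⟩
  -- characters over them
  have hover : ∀ μ ∈ M, μ ≠ 1 → ∃ φ : IrrCharacter (commutator L), ∃ d : ℕ, 0 < d ∧
      (φ : commutator L → ℂ) 1 = d ∧ d ≠ 1 ∧ ∀ c : C, (φ : commutator L → ℂ) c = d * (μ c : ℂ) := by
    intro μ hμ hμ1
    obtain ⟨φ, hφ⟩ := ThreeDegrees.exists_over C ⟨_, Chars.isIrrCharacter_of_hom μ⟩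
    obtain ⟨d, hd0, hd⟩ := Chars.isIrrCharacter_exists_degree_pos φ.2
    have hres := Clifford.resFun_eq_smul_of_invariant φ.2 (Chars.isIrrCharacter_of_hom μ) hφ
      (fun g => funext fun c => congrArg Units.val (hinvar μ hμ g c))
    have h1 := congrFun hres 1
    simp only [Clifford.resFun_apply, OneMemClass.coe_one, Pi.smul_apply, smul_eq_mul, map_one,
      Units.val_one, mul_one, hd] at h1
    have hval : ∀ c : C, (φ : commutator L → ℂ) c = d * (μ c : ℂ) := fun c => by
      have h2 := congrFun hres c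
      rwa [Pi.smul_apply, smul_eq_mul, ← h1] at h2
    refine ⟨φ, d, hd0, hd, fun h0 => hμ1 (MonoidHom.ext fun c => Units.ext ?_), hval⟩
    have h3 := linear_apply_commutator φ (by rw [hd, h0, Nat.cast_one]) c.2
    rw [hval c, h0, Nat.cast_one, one_mul] at h3
    exact h3
  have hvan : ∀ φ : IrrCharacter (commutator L), (φ : commutator L → ℂ) 1 ≠ 1 →
      ∀ z : commutator L, z ∉ C → (φ : commutator L → ℂ) z = 0 :=
    fun φ hφ1 z hz => h.apply_eq_zero hp hP hidx hker hdeg hm φ hφ1 z hz
  -- uniqueness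
  have huniq : ∀ μ ∈ M, ∀ (φ ψ : IrrCharacter (commutator L)) (d e : ℕ), 0 < d → 0 < e →
      (φ : commutator L → ℂ) 1 ≠ 1 → (ψ : commutator L → ℂ) 1 ≠ 1 →
      (∀ c : C, (φ : commutator L → ℂ) c = d * (μ c : ℂ)) →
      (∀ c : C, (ψ : commutator L → ℂ) c = e * (μ c : ℂ)) → φ = ψ := by
    intro μ _ φ ψ d e hd he hφ1 hψ1 hφ hψ
    by_contra hne'
    have h0 := Chars.classInner_irr_of_ne hne'
    rw [classInner, mul_eq_zero] at h0
    rcases h0 with h0 | h0
    · exact inv_ne_zero Chars.natCard_ne_zero h0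
    have hterm : ∀ z : commutator L, (φ : commutator L → ℂ) z * conj ((ψ : commutator L → ℂ) z) =
        if z ∈ C then ((d * e : ℕ) : ℂ) else 0 := fun z => by
      split_ifs with hz
      · have e1 := hφ ⟨z, hz⟩
        have e2 := hψ ⟨z, hz⟩
        simp only at e1 e2
        have hn : (μ ⟨z, hz⟩ : ℂ) * conj ((μ ⟨z, hz⟩ : ℂˣ) : ℂ) = 1 := by
          rw [Complex.mul_conj, Complex.normSq_eq_norm_sq, Chars.norm_hom_apply μ ⟨z, hz⟩]; simp
        rw [e1, e2, map_mul, Complex.conj_natCast, Nat.cast_mul]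
        linear_combination ((d : ℂ) * e) * hn
      · rw [hvan φ hφ1 z hz, zero_mul]
    rw [Finset.sum_congr rfl (fun z _ => hterm z), ← Finset.sum_filter, Finset.sum_const,
      nsmul_eq_mul, ← Nat.cast_mul, Nat.cast_eq_zero, mul_eq_zero, mul_eq_zero,
      Finset.card_eq_zero] at h0
    rcases h0 with h0 | h0 | h0
    · exact Finset.eq_empty_iff_forall_notMem.mp h0 1
        (Finset.mem_filter.mpr ⟨Finset.mem_univ _, one_mem _⟩)
    · omega
    · omega
  -- the action of `L`
  let cj : L → C →* C := fun l =>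
    ((MulAut.conjNormal (H := commutator L) l : MulAut (commutator L)).toMonoidHom.comp
      C.subtype).codRestrict C fun c => map_mem_commutator
        (MulAut.conjNormal (H := commutator L) l : MulAut (commutator L)).toMonoidHom c.2
  have hcjM : ∀ l, ∀ μ ∈ M, μ.comp (cj l) ∈ M := by
    intro l μ hμ z hz
    refine hμ _ ?_
    have h2 := Subgroup.mem_map_of_mem
      (MulAut.conjNormal (H := commutator L) l : MulAut (commutator L)).toMonoidHom hz
    rw [hZ, Subgroup.map_commutator] at h2
    refine Subgroup.commutator_mono (fun c hc => ?_) le_top h2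
    obtain ⟨c, hc', rfl⟩ := hc
    exact map_mem_commutator _ hc'
  have hcj1 : ∀ (μ : C →* ℂˣ) l, μ.comp (cj l) = 1 → μ = 1 := by
    intro μ l hl
    refine MonoidHom.ext fun c => ?_
    obtain ⟨c', rfl⟩ := Finite.surjective_of_injective (f := cj l) (fun a b hab => Subtype.ext
      ((MulAut.conjNormal (H := commutator L) l).injective (congrArg Subtype.val hab))) c
    exact DFunLike.congr_fun hl c'
  let X := {μ : M // μ ≠ 1}
  let act : MulAction L X :=
    { smul := fun l μ => ⟨⟨_, hcjM l⁻¹ μ.1 μ.1.2⟩,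
        fun e => μ.2 (Subtype.ext (hcj1 _ _ (congrArg Subtype.val e)))⟩
      one_smul := fun μ => Subtype.ext (Subtype.ext (MonoidHom.ext fun c =>
        congrArg (μ.1.1) (Subtype.ext (Subtype.ext (by
          show ((MulAut.conjNormal (1 : L)⁻¹ (c : commutator L) : commutator L) : L) = _
          simp)))))
      mul_smul := fun a b μ => Subtype.ext (Subtype.ext (MonoidHom.ext fun c =>
        congrArg (μ.1.1) (Subtype.ext (Subtype.ext (by
          show ((MulAut.conjNormal (a * b)⁻¹ (c : commutator L) : commutator L) : L) =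
            ((MulAut.conjNormal b⁻¹ (MulAut.conjNormal a⁻¹ (c : commutator L)) :
              commutator L) : L)
          rw [mul_inv_rev, map_mul]; rfl))))) }
  have hstab : ∀ μ : X, MulAction.stabilizer L μ ≤ fixRho τ := by
    intro μ l hl
    have hμ1 : (μ.1 : C →* ℂˣ) ≠ 1 := fun e => μ.2 (Subtype.ext e)
    obtain ⟨φ, d, hd0, hd, hd1, hφ⟩ := hover _ μ.1.2 hμ1
    have hφ1 : (φ : commutator L → ℂ) 1 ≠ 1 := by rw [hd]; exact_mod_cast hd1
    refine (inv_mem_iff (H := fixRho τ)).mp
      (h.stabFun_le_fixRho hp hP hidx φ hd hd1 (show l⁻¹ ∈ _ from ?_))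
    rw [mem_stabFun]
    have hirr := Clifford.isIrrCharacter_conjFun l⁻¹ φ.2
    refine congrArg Subtype.val (huniq _ μ.1.2 ⟨_, hirr⟩ φ d d hd0 hd0 ?_ hφ1 (fun c => ?_) hφ)
    · show Clifford.conjFun l⁻¹ (φ : commutator L → ℂ) 1 ≠ 1
      rwa [Clifford.conjFun_apply_one]
    · have h1 : ((μ.1 : C →* ℂˣ) (cj l⁻¹ c)) = (μ.1 : C →* ℂˣ) c :=
        DFunLike.congr_fun (congrArg (fun z : X => (z.1 : C →* ℂˣ)) (hl : l • μ = μ)) c
      have h2 := hφ (cj l⁻¹ c)
      rw [h1] at h2
      rw [← h2]
      exact congrArg (φ : commutator L → ℂ) (Subtype.ext rfl)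
  obtain ⟨u₀, hu₀⟩ : ∃ u₀ : commutator L, u₀ ∉ C := by
    by_contra! hall
    exact (Group.IsSolvable.commutator_lt_top_of_nontrivial (commutator L)).ne
      (eq_top_iff.mpr fun z _ => hall z)
  -- `#M < #Dual`
  have hcard : Nat.card M < Nat.card (Dual L) := by
    let Ψ : M → Dual L := fun μ => MonoidHom.mk'
      (fun d => (μ : C →* ℂˣ) ⟨⁅u₀, d⁆,
        Subgroup.commutator_mem_commutator (Subgroup.mem_top u₀) (Subgroup.mem_top d)⟩)
      fun a b => by
        conv_rhs => arg 2; rw [← hinvar _ μ.2 a]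
        rw [← map_mul]
        congr 1
        refine Subtype.ext ?_
        simp only [Subgroup.coe_mul, commutatorElement_def]
        group
    have hker' : ∀ μ : M, μ ≠ 1 → ∃ d, Ψ μ d ≠ 1 := by
      intro μ hμ
      by_contra! hall
      have hμ1 : (μ : C →* ℂˣ) ≠ 1 := fun e => hμ (Subtype.ext e)
      obtain ⟨φ, d, hd0, hd, hd1, hφ⟩ := hover _ μ.2 hμ1
      obtain ⟨n, ρ, hρi, hρ⟩ := Chars.irr_exists_rep φ
      have hn : Module.finrank ℂ (Fin n → ℂ) = d := by
        have h1 := congrFun hρ 1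
        rw [Representation.char_one, hd] at h1
        exact_mod_cast h1
      have hscal : ∀ c : C, ρ c = ((μ : C →* ℂˣ) c : ℂ) • (1 : Module.End ℂ (Fin n → ℂ)) := by
        intro c
        obtain ⟨ω, hω⟩ := (Chars.norm_char_eq_iff ρ (c : commutator L)).mp (by
          rw [congrFun hρ, hφ, norm_mul, Chars.norm_hom_apply, mul_one, hn]; simp)
        have htr := congrFun hρ (c : commutator L)
        rw [Representation.character, hω, map_smul, LinearMap.trace_id, hn, smul_eq_mul, hφ,
          mul_comm] at htr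
        rw [hω, mul_left_cancel₀ (by exact_mod_cast hd0.ne') htr]
        rfl
      obtain ⟨ω, hω⟩ := Clifford.schur_scalar ρ (ρ u₀) fun g => by
        have h1 : ρ ⁅u₀, g⁆ = 1 := by
          rw [show ⁅u₀, g⁆ = ((⟨⁅u₀, g⁆, Subgroup.commutator_mem_commutator (Subgroup.mem_top u₀)
            (Subgroup.mem_top g)⟩ : C) : commutator L) from rfl, hscal]
          rw [show (μ : C →* ℂˣ) ⟨⁅u₀, g⁆, Subgroup.commutator_mem_commutator (Subgroup.mem_top u₀)
            (Subgroup.mem_top g)⟩ = 1 from hall g, Units.val_one, one_smul]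
        rw [← map_mul, ← map_mul, show u₀ * g = ⁅u₀, g⁆ * (g * u₀) by
          rw [commutatorElement_def]; group, map_mul, h1, one_mul]
      have hω0 : ω ≠ 0 := by
        intro h0
        have h1 : ρ u₀ * ρ u₀⁻¹ = 1 := by rw [← map_mul, mul_inv_cancel, map_one]
        rw [hω, h0, zero_smul, zero_mul] at h1
        have := Chars.nontrivial_of_isIrreducible ρ
        exact zero_ne_one h1
      have h2 := hvan φ (by rw [hd]; exact_mod_cast hd1) u₀ hu₀
      rw [← congrFun hρ, Representation.character, hω, map_smul, Module.End.one_eq_id,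
        LinearMap.trace_id, hn, smul_eq_mul, mul_eq_zero] at h2
      rcases h2 with h2 | h2
      · exact hω0 h2
      · exact hd0.ne' (by exact_mod_cast h2)
    have hinj : Function.Injective Ψ := by
      intro a b hab
      by_contra hne'
      obtain ⟨d, hd⟩ := hker' (a * b⁻¹) (fun e => hne' (mul_inv_eq_one.mp e))
      refine hd ?_
      have h1 := DFunLike.congr_fun hab d
      show (a : C →* ℂˣ) _ * ((b : C →* ℂˣ) _)⁻¹ = 1
      rw [mul_inv_eq_one]
      exact h1
    obtain ⟨ν, hν⟩ : ∃ ν : Dual L, ν u₀ ≠ 1 := by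
      by_contra! hall
      exact hu₀ (mem_commutator_of_forall_hom hall)
    have hns : ¬ Function.Surjective Ψ := fun hs => by
      obtain ⟨μ, hμ⟩ := hs ν
      refine hν ?_
      rw [← hμ]
      show (μ : C →* ℂˣ) _ = 1
      rw [← map_one (μ : C →* ℂˣ)]
      congr 1
      exact Subtype.ext (commutatorElement_self u₀)
    refine lt_of_le_of_ne (Nat.card_le_card_of_injective Ψ hinj) fun he => hns ?_
    exact ((Nat.bijective_iff_injective_and_card Ψ).mpr ⟨hinj, he⟩).2
  -- counting
  have hMp : IsPGroup p M := fun μ => by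
    obtain ⟨i, hi⟩ := IsPGroup.iff_card.mp (hP.to_subgroup C)
    refine ⟨i, Subtype.ext (MonoidHom.ext fun c => ?_)⟩
    rw [SubgroupClass.coe_pow, MonoidHom.pow_apply, ← map_pow, ← hi, pow_card_eq_one', map_one]
    rfl
  obtain ⟨n, hn⟩ := IsPGroup.iff_card.mp hMp
  have hn1 : 1 ≤ n := by
    by_contra h0
    rw [show n = 0 by omega, pow_zero, Subgroup.card_eq_one] at hn
    exact hMne hn
  have hX : Nat.card X = p ^ n - 1 := by
    have h1 : Nat.card (Option X) = p ^ n := by
      rw [← hn]; exact Nat.card_congr (Equiv.optionSubtypeNe (1 : M))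
    rw [Finite.card_option] at h1
    omega
  have hdvd : (fixRho τ).index ∣ p ^ n - 1 := by
    have := Fintype.ofFinite (MulAction.orbitRel.Quotient L X)
    rw [← hX, Nat.card_congr (MulAction.selfEquivSigmaOrbits L X), Nat.card_sigma]
    refine Finset.dvd_sum fun ω _ => ?_
    rw [show Nat.card (MulAction.orbit L ω.out) = (MulAction.stabilizer L ω.out).index from
      (MulAction.index_stabilizer L ω.out).symm]
    exact Subgroup.index_dvd_of_le (hstab _)
  have := hnum n hn1 hdvd
  omega

/-- All non-linear irreducible characters of `L` have the same degree. -/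
theorem equal_degrees (h : Hyp L τ q k s x u w) [Group.IsSolvable L] (θ θ' : IrrCharacter L)
    {c c' : ℕ} (hc : (θ : L → ℂ) 1 = c) (hc' : (θ' : L → ℂ) 1 = c') (h1 : c ≠ 1) (h1' : c' ≠ 1) :
    c = c' := by
  classical
  by_cases hD : commutator L = ⊥
  · refine absurd ?_ h1
    have := ThreeDegrees.linear_of_trivial_on_commutator θ (fun g hg => by
      rw [hD, Subgroup.mem_bot] at hg; rw [hg])
    exact_mod_cast hc.symm.trans this
  obtain ⟨p, hp, hP, hidx, hker, hdeg, hm, hnum⟩ := h.linear_facts hD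
  have hab := h.derived_commutative hp hP hidx hker hdeg hm hnum
  suffices ∀ (θ : IrrCharacter L) (c : ℕ), (θ : L → ℂ) 1 = c → c ≠ 1 →
      c = (rho L).ker.index from (this θ c hc h1).trans (this θ' c' hc' h1').symm
  intro θ c hc h1
  have := Fintype.ofFinite (commutator L)
  obtain ⟨φ, hφ⟩ := ThreeDegrees.exists_constituent (commutator L) θ
  have hφ1 : (φ : commutator L → ℂ) 1 = 1 :=
    ThreeDegrees.linear_of_trivial_on_commutator φ fun g hg => by
      rw [hab, Subgroup.mem_bot] at hg; rw [hg]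
  obtain ⟨ν, hν⟩ := Chars.exists_hom_of_degree_one (Chars.irr_isCharacter φ) hφ1
  have hν' : (φ : commutator L → ℂ) = dfun ν := hν
  rw [hν'] at hφ
  have hνne : ν ≠ 1 := by
    rintro rfl
    refine h1 ?_
    have hres := Clifford.resFun_eq_smul_of_invariant θ.2 (isIrr_dfun 1) hφ (fun g => rfl)
    have h2 := ThreeDegrees.linear_of_trivial_on_commutator θ (fun g hg => by
      have e1 := congrFun hres ⟨g, hg⟩
      have e2 := congrFun hres 1
      simp only [Clifford.resFun_apply, Pi.smul_apply, OneMemClass.coe_one] at e1 e2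
      rw [e1, e2]; rfl)
    exact_mod_cast hc.symm.trans h2
  have hT : ∀ g, g ∈ (rho L).ker ↔ Clifford.conjFun g (dfun ν) = dfun ν := fun g => by
    rw [conjFun_dfun, dfun_injective.eq_iff, MonoidHom.mem_ker]
    refine ⟨fun e => by rw [map_inv, e, inv_one]; rfl, fun e => ?_⟩
    have := hker ν hνne g⁻¹ e
    rwa [map_inv, inv_eq_one] at this
  have h2 := Clifford.apply_one_eq θ.2 (isIrr_dfun ν) hφ _ hT
  obtain ⟨e, he⟩ := Chars.isCharacter_classInner_nat
    (Chars.isCharacter_restrict (commutator L) (Chars.irr_isCharacter θ))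
    (Chars.isCharacter_of_isIrrCharacter (isIrr_dfun ν))
  rw [hc, show classInner (Clifford.resFun (commutator L) (θ : L → ℂ)) (dfun ν) = (e : ℂ) from he,
    show dfun ν 1 = 1 from congrFun hν' 1 ▸ hφ1, mul_one] at h2
  have h3 : c = e * (rho L).ker.index := by exact_mod_cast h2
  obtain ⟨θ₀, hθ₀⟩ := hdeg
  refine (h.hanti θ₀ θ _ c hθ₀ hc ?_ ⟨e, by rw [h3, mul_comm]⟩).symm
  have := Subgroup.index_ne_zero_of_finite (H := (rho L).ker)
  omega

end Hyp

end Cfsg.Agent.Lib.NoDivDeg
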