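import Cfsg.Agent.Lib.NoDivDeg.Linear
import Cfsg.Agent.Lib.OddChar.Clifford

/-!
The fixed elements of a non-linear character of the derived group.
-/

set_option autoImplicit false

namespace Cfsg.Agent.Lib.NoDivDeg

open Cfsg
open Cfsg.Agent.Lib
open scoped commutatorElement

variable {L : Type*} [Group L] [Fintype L]

/-- The stabiliser of a function on a normal subgroup. -/
def stabFun (N : Subgroup L) [N.Normal] (φ : N → ℂ) : Subgroup L where
  carrier := {l | Clifford.conjFun l φ = φ}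
  one_mem' := Clifford.conjFun_one φ
  mul_mem' := fun {a b} (ha : _ = φ) (hb : _ = φ) => by
    show _ = φ
    rw [Clifford.conjFun_mul, ha, hb]
  inv_mem' := fun {a} (ha : _ = φ) => by
    show _ = φ
    conv_lhs => rw [← ha, ← Clifford.conjFun_mul, mul_inv_cancel, Clifford.conjFun_one]

theorem mem_stabFun {N : Subgroup L} [N.Normal] {φ : N → ℂ} {l : L} :
    l ∈ stabFun N φ ↔ Clifford.conjFun l φ = φ := Iff.rfl

theorem le_stabFun {N : Subgroup L} [N.Normal] (φ : IrrCharacter N) :
    N ≤ stabFun N (φ : N → ℂ) := fun n hn => funext fun m =>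
  Chars.isClassFunction_of_isCharacter (Chars.irr_isCharacter φ) m ⟨n, hn⟩

namespace Hyp

variable {τ : MulAut L} {q k s : ℕ} {x u w : L}

/-- An `l`-element, `l ≠ p`, fixing a non-linear character of the derived `p`-group is fixed by
`τ` modulo the derived group. -/
theorem prime_pow_fixed (h : Hyp L τ q k s x u w) {p : ℕ} (hp : p.Prime)
    (hP : IsPGroup p (commutator L)) (φ : IrrCharacter (commutator L)) {d : ℕ}
    (hd : (φ : commutator L → ℂ) 1 = d) (hd1 : d ≠ 1) {e : L}
    (he : e ∈ Subgroup.centralizer ({x} : Set L)) {l j : ℕ} (hl : l.Prime) (hlp : l ≠ p)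
    (hej : orderOf e = l ^ j) (hfix : e ∈ stabFun (commutator L) (φ : commutator L → ℂ)) :
    τ e * e⁻¹ ∈ commutator L := by
  classical
  have := Fact.mk hp
  set N := Subgroup.zpowers e ⊔ (commutator L) with hN
  have hDN : (commutator L) ≤ N := le_sup_right
  have heN : e ∈ N := Subgroup.mem_sup_left (Subgroup.mem_zpowers e)
  have hNT : N ≤ stabFun (commutator L) (φ : (commutator L) → ℂ) := sup_le (Subgroup.zpowers_le.mpr hfix) (le_stabFun φ)
  let D' : Subgroup N := (commutator L).subgroupOf N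
  let eD : D' ≃* (commutator L) := Subgroup.subgroupOfEquivOfLe hDN
  have hirr : IsIrrCharacter D' (fun z => (φ : (commutator L) → ℂ) (eD z)) :=
    Clifford.isIrrCharacter_comp_equiv eD φ.2
  have hinv : ∀ g : N, Clifford.conjFun g (fun z => (φ : (commutator L) → ℂ) (eD z)) =
      fun z => (φ : (commutator L) → ℂ) (eD z) := fun g => funext fun z => congrFun (hNT g.2) (eD z)
  obtain ⟨i, hi⟩ : ∃ i, D'.index = l ^ i := by
    have h1 : D'.index ∣ l ^ j := by
      show (commutator L).relIndex N ∣ _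
      rw [hN, Subgroup.relIndex_sup_right, ← hej, ← Nat.card_zpowers]
      exact Subgroup.relIndex_dvd_card _ _
    obtain ⟨i, -, hi⟩ := (Nat.dvd_prime_pow hl).mp h1
    exact ⟨i, hi⟩
  obtain ⟨a, ha⟩ := IsPGroup.iff_card.mp hP
  have hcop : (D'.index).Coprime (Nat.card D') := by
    rw [hi, Nat.card_congr eD.toEquiv, ha]
    exact ((Nat.coprime_primes hl hp).mpr hlp).pow i a
  obtain ⟨χ, hχ, hres⟩ := OddChar.exists_extension_of_coprime (G := N) (N := D') hirr hinv hcop
  have hχ1 : χ 1 = d := by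
    have := hres 1
    rw [OneMemClass.coe_one, map_one, hd] at this
    exact this
  have hld : ¬ l ∣ d := fun hdvd => by
    obtain ⟨d', -, hd', hdvd'⟩ := Chars.irr_degree_dvd_card φ
    obtain rfl : d = d' := by exact_mod_cast hd.symm.trans hd'
    exact hlp ((Nat.prime_dvd_prime_iff_eq hl hp).mp
      (hl.dvd_of_dvd_pow (ha ▸ hdvd.trans hdvd')))
  have hne := apply_ne_zero_of_primePow (G := N) ⟨χ, hχ⟩ hχ1 hl (y := ⟨e, heN⟩)
    (by rw [Subgroup.orderOf_mk, hej]) hld
  have hmem : ∀ g : L, g⁻¹ * e * g ∈ N ∧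
      ∀ hg : g⁻¹ * e * g ∈ N, χ ⟨g⁻¹ * e * g, hg⟩ = χ ⟨e, heN⟩ := fun g => by
    obtain ⟨c, hc, g', hg', hgg⟩ := h.exists_decomp g⁻¹
    have e1 : g⁻¹ * e * g = c * e * c⁻¹ := by
      rw [show g = (g⁻¹)⁻¹ from (inv_inv g).symm, inv_inv g⁻¹, hgg, mul_inv_rev,
        show c * g' * e * (g'⁻¹ * c⁻¹) = c * (g' * e) * g'⁻¹ * c⁻¹ by group,
        (h.centralizer_comm hg' he).eq]
      group
    refine ⟨e1 ▸ N.mul_mem (N.mul_mem (hDN hc) heN) (N.inv_mem (hDN hc)), fun hg => ?_⟩
    rw [show (⟨g⁻¹ * e * g, hg⟩ : N) = ⟨c, hDN hc⟩ * ⟨e, heN⟩ * ⟨c, hDN hc⟩⁻¹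
      from Subtype.ext e1]
    exact Chars.isClassFunction_of_isCharacter (Chars.isCharacter_of_isIrrCharacter hχ) _ _
  have hF : indFun N χ e ≠ 0 := by
    rw [indFun_eq_index_mul N χ (c := χ ⟨e, heN⟩) (fun g => (hmem g).1) fun g => (hmem g).2 _]
    exact mul_ne_zero (Nat.cast_ne_zero.mpr Subgroup.index_ne_zero_of_finite) hne
  obtain ⟨θ, hθ, hθe⟩ := exists_constituent_apply_ne_zero
    (Chars.isCharacter_indFun N (Chars.isCharacter_of_isIrrCharacter hχ)) hF
  refine h.vanish θ (fun h1 => hθ ?_) hθe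
  rw [Chars.classInner_indFun_left N _ _ (Chars.irr_isClassFunction θ)]
  obtain ⟨f, hf⟩ := Chars.exists_hom_of_degree_one (Chars.irr_isCharacter θ) h1
  rw [show (fun z : N => (θ : L → ℂ) z) = fun z : N => ((f.comp N.subtype z : ℂˣ) : ℂ) from
    funext fun z => congrFun hf z]
  refine Chars.classInner_irr_of_ne (χ := ⟨χ, hχ⟩)
    (ψ := ⟨_, Chars.isIrrCharacter_of_hom (f.comp N.subtype)⟩) fun hEq => hd1 ?_
  have h2 := congrFun (congrArg Subtype.val hEq) 1
  simp only [map_one, Units.val_one] at h2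
  exact_mod_cast (hχ1.symm.trans h2 : (d : ℂ) = 1)

/-- Every element fixing a non-linear character of the derived `p`-group lies in `fixRho τ`. -/
theorem stabFun_le_fixRho (h : Hyp L τ q k s x u w) {p : ℕ} (hp : p.Prime)
    (hP : IsPGroup p (commutator L)) (hidx : ¬ p ∣ (rho L).ker.index)
    (φ : IrrCharacter (commutator L)) {d : ℕ} (hd : (φ : commutator L → ℂ) 1 = d) (hd1 : d ≠ 1) :
    stabFun (commutator L) (φ : commutator L → ℂ) ≤ fixRho τ := by
  have hD : commutator L ≤ fixRho τ := fun c hc => mem_fixRho.mpr (by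
    rw [rho_eq_one_of_mem hc, rho_eq_one_of_mem
      (show τ c ∈ commutator L from map_mem_commutator τ.toMonoidHom hc)])
  have key : ∀ n : ℕ, ∀ e ∈ Subgroup.centralizer ({x} : Set L), orderOf e = n →
      e ∈ stabFun (commutator L) (φ : commutator L → ℂ) → e ∈ fixRho τ := by
    intro n
    induction n using Nat.recOnPosPrimePosCoprime with
    | zero => intro e _ hn; exact absurd hn (orderOf_pos e).ne'
    | one => intro e _ hn _; rw [orderOf_eq_one_iff.mp hn]; exact one_mem _
    | prime_pow l j hl _ =>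
      intro e he hn hfix
      rw [mem_fixRho]
      by_cases hlp : l = p
      · subst hlp
        have key : ∀ z : L, orderOf z ∣ l ^ j → rho L z = 1 := fun z hz => by
          have hz2 : orderOf (rho L z) ∣ (rho L).ker.index := by
            rw [Subgroup.index_ker]
            exact Subgroup.orderOf_dvd_natCard _ (⟨z, rfl⟩ : rho L z ∈ (rho L).range)
          exact orderOf_eq_one_iff.mp (Nat.eq_one_of_dvd_coprimes
            ((hl.coprime_iff_not_dvd.mpr hidx).pow_left j)
            ((orderOf_map_dvd _ z).trans hz) hz2)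
        rw [key e hn.dvd, key (τ e) ((MulEquiv.orderOf_eq τ e).trans hn).dvd]
      · have := rho_eq_one_of_mem (h.prime_pow_fixed hp hP φ hd hd1 he hl hlp hn hfix)
        rwa [map_mul, map_inv, mul_inv_eq_one] at this
    | coprime a b ha hb hab iha ihb =>
      intro e he hn hfix
      have h1 : e ^ a ∈ fixRho τ := ihb _ (pow_mem he a) (by
        rw [orderOf_pow, hn, Nat.gcd_eq_right (dvd_mul_right a b), Nat.mul_div_cancel_left _ (by omega)])
        (pow_mem hfix a)
      have h2 : e ^ b ∈ fixRho τ := iha _ (pow_mem he b) (by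
        rw [orderOf_pow, hn, Nat.gcd_eq_right (dvd_mul_left b a), Nat.mul_div_cancel _ (by omega)])
        (pow_mem hfix b)
      have hbez : e = (e ^ a) ^ Nat.gcdA a b * (e ^ b) ^ Nat.gcdB a b := by
        rw [← zpow_natCast e a, ← zpow_natCast e b, ← zpow_mul, ← zpow_mul, ← zpow_add,
          ← Nat.gcd_eq_gcd_ab, Nat.Coprime.gcd_eq_one hab, Nat.cast_one, zpow_one]
      rw [hbez]
      exact mul_mem (zpow_mem h1 _) (zpow_mem h2 _)
  intro l hl
  obtain ⟨c, hc, e, he, rfl⟩ := h.exists_decomp l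
  refine mul_mem (hD hc) (key _ e he rfl ?_)
  have := (stabFun (commutator L) (φ : commutator L → ℂ)).mul_mem
    (inv_mem (le_stabFun φ hc)) hl
  rwa [inv_mul_cancel_left] at this

end Hyp

end Cfsg.Agent.Lib.NoDivDeg
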