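import Cfsg.Agent.Lib.NoDivDeg.Setting
import Cfsg.Agent.Lib.Coprime.ThompsonFPF

/-!
The linear part: the derived group is a `p`-group and its linear characters have a single orbit
length.
-/

set_option autoImplicit false

namespace Cfsg.Agent.Lib.NoDivDeg

open Cfsg
open Cfsg.Agent.Lib

variable {L : Type*} [Group L] [Fintype L]

instance : Finite (Dual L) := Finite.of_injective _ Chars.linIrr_injective

/-- The elements on which `τ` acts trivially through `rho`. -/
def fixRho (τ : MulAut L) : Subgroup L :=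
  (Subgroup.centralizer ({dualHom L τ} : Set (MulAut (Dual L)))).comap (rho L)

omit [Fintype L] in
theorem mem_fixRho {τ : MulAut L} {l : L} : l ∈ fixRho τ ↔ rho L (τ l) = rho L l := by
  rw [fixRho, Subgroup.mem_comap, Subgroup.mem_centralizer_singleton_iff, ← dualHom_conj,
    mul_inv_eq_iff_eq_mul, eq_comm]

/-- Restriction of an automorphism to the derived group, as an equivalence. -/
def resEquiv (σ : MulAut L) : commutator L ≃* commutator L where
  toFun := resD σ.toMonoidHom
  invFun := resD σ.symm.toMonoidHom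
  left_inv d := Subtype.ext (σ.symm_apply_apply d.1)
  right_inv d := Subtype.ext (σ.apply_symm_apply d.1)
  map_mul' := map_mul _

namespace Hyp

variable {τ : MulAut L} {q k s : ℕ} {x u w : L}

/-- Every orbit of linear characters of the derived group is fixed by `τ`. -/
theorem exists_orbit_eq (h : Hyp L τ q k s x u w) (ν : Dual L) (hν : ν ≠ 1) :
    ∃ l, dualHom L τ ν = rho L l ν := by
  classical
  have := Fintype.ofFinite (commutator L)
  set ν' := dualHom L τ ν with hν'
  obtain ⟨θ, hθ⟩ := ThreeDegrees.exists_over (commutator L) ⟨_, isIrr_dfun ν'⟩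
  have hθ1 : (θ : L → ℂ) 1 ≠ 1 := by
    intro h1
    apply hθ
    rw [show Clifford.resFun (commutator L) (θ : L → ℂ) = dfun (1 : Dual L) from
      funext fun d => (linear_apply_commutator θ h1 d.2).trans (by simp [dfun])]
    refine Chars.classInner_irr_of_ne (χ := ⟨_, isIrr_dfun 1⟩) (ψ := ⟨_, isIrr_dfun ν'⟩) fun e => ?_
    have e' : ν' = 1 := (dfun_injective (congrArg Subtype.val e)).symm
    exact hν ((dualHom L τ).injective (hν'.symm.trans e' |>.trans (map_one _).symm))
  have h2 : classInner (Clifford.resFun (commutator L) (θ : L → ℂ)) (dfun ν) ≠ 0 := by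
    rw [← Clifford.classInner_comp_equiv (resEquiv τ)] at hθ
    have e1 : (fun d => Clifford.resFun (commutator L) (θ : L → ℂ) (resEquiv τ d)) =
        Clifford.resFun (commutator L) (θ : L → ℂ) := funext fun d => h.hinv θ hθ1 (d : L)
    have e2 : (fun d => (⟨_, isIrr_dfun ν'⟩ : IrrCharacter (commutator L)).val (resEquiv τ d)) =
        dfun ν := funext fun d => congrArg (fun e : commutator L => ((ν e : ℂˣ) : ℂ))
          (Subtype.ext (τ.symm_apply_apply (d : L)))
    rwa [e1, e2] at hθ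
  obtain ⟨g, hg⟩ := Clifford.exists_conjFun_eq_of_constituent θ.2 (isIrr_dfun ν') (isIrr_dfun ν)
    hθ h2
  rw [conjFun_dfun, dfun_injective.eq_iff] at hg
  refine ⟨g, ?_⟩
  rw [← hg, map_inv, ← MulAut.mul_apply, mul_inv_cancel, MulAut.one_apply]

theorem linear_facts (h : Hyp L τ q k s x u w) [Group.IsSolvable L] (hD : commutator L ≠ ⊥) :
    ∃ p, p.Prime ∧ IsPGroup p (commutator L) ∧ ¬ p ∣ (rho L).ker.index ∧
      (∀ ν : Dual L, ν ≠ 1 → ∀ l, rho L l ν = ν → rho L l = 1) ∧
      (∃ θ : IrrCharacter L, (θ : L → ℂ) 1 = ((rho L).ker.index : ℂ)) ∧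
      (rho L).ker.index ≠ 1 ∧ ∀ n : ℕ, 1 ≤ n → (fixRho τ).index ∣ p ^ n - 1 →
        Nat.card (Dual L) ≤ p ^ n := by
  classical
  set D := commutator L with hDdef
  have : Nontrivial D := (Subgroup.nontrivial_iff_ne_bot D).mpr hD
  -- a non-trivial linear character
  obtain ⟨ν₀, hν₀⟩ : ∃ ν : Dual L, ν ≠ 1 := by
    by_contra! hall
    have htop : commutator D = ⊤ := eq_top_iff.mpr fun z _ =>
      mem_commutator_of_forall_hom fun κ => by rw [hall κ]; rfl
    exact (Group.IsSolvable.commutator_lt_top_of_nontrivial D).ne htop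
  have : Nontrivial (Dual L) := ⟨⟨ν₀, 1, hν₀⟩⟩
  let A := (rho L).range
  have hA : ∀ a ∈ A, ∀ b ∈ A, a * b = b * a := by
    rintro _ ⟨a, rfl⟩ _ ⟨b, rfl⟩
    exact h.rho_comm a b
  have hγA : ∀ a ∈ A, dualHom L τ * a * (dualHom L τ)⁻¹ ∈ A := by
    rintro _ ⟨a, rfl⟩
    exact ⟨τ a, (dualHom_conj τ a).symm⟩
  have hγ : dualHom L τ ^ q ^ k = 1 := by rw [← map_pow, h.hτ, map_one]
  have hfix : ∀ ν : Dual L, ν ≠ 1 → ∃ a ∈ A, dualHom L τ ν = a ν := fun ν hν => by
    obtain ⟨l, hl⟩ := h.exists_orbit_eq ν hν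
    exact ⟨_, ⟨l, rfl⟩, hl⟩
  let T : Dual L → Subgroup L := fun ν =>
    { carrier := {l | rho L l ν = ν}
      one_mem' := by show rho L 1 ν = ν; rw [map_one]; rfl
      mul_mem' := fun {a b} (ha : rho L a ν = ν) (hb : rho L b ν = ν) => by
        show rho L (a * b) ν = ν
        rw [map_mul, MulAut.mul_apply, hb, ha]
      inv_mem' := fun {a} (ha : rho L a ν = ν) => by
        show rho L a⁻¹ ν = ν
        conv_lhs => rw [← ha, ← MulAut.mul_apply, ← map_mul, inv_mul_cancel, map_one]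
        rfl }
  have hT : ∀ ν l, l ∈ T ν ↔ rho L l ν = ν := fun _ _ => Iff.rfl
  have hstab : ∀ ν : Dual L, ν ≠ 1 → ∀ a ∈ A, a ν = ν →
      dualHom L τ * a * (dualHom L τ)⁻¹ = a := by
    rintro ν hν _ ⟨l, rfl⟩ hl
    rw [dualHom_conj]
    exact (h.stabilizer_facts ν hν (T ν) (hT ν)).2.2 l hl
  have horb : ∀ ν : Dual L, ν ≠ 1 → ∀ a ∈ A, (a ^ q) ν = ν → a ν = ν := by
    rintro ν hν _ ⟨l, rfl⟩ hl
    obtain ⟨htop, ⟨θ, hθ⟩, -⟩ := h.stabilizer_facts ν hν (T ν) (hT ν)
    have hq := h.hdeg θ _ hθ (fun e => htop (Subgroup.index_eq_one.mp e))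
    have hDT : D ≤ T ν := fun d hd => by
      rw [hT, rho_eq_one_of_mem hd]; rfl
    have : (T ν).Normal := ⟨fun n hn g => by
      have := (T ν).mul_mem (hDT (Subgroup.commutator_mem_commutator (Subgroup.mem_top g)
        (Subgroup.mem_top n))) hn
      simpa [commutatorElement_def] using this⟩
    have h1 : ((l : L ⧸ T ν)) ^ q = 1 := by
      rw [← QuotientGroup.mk_pow, QuotientGroup.eq_one_iff, hT, map_pow]
      exact hl
    have h2 := Nat.eq_one_of_dvd_coprimes (h.hq.coprime_iff_not_dvd.mpr hq)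
      (orderOf_dvd_of_pow_eq_one h1) (orderOf_dvd_natCard (l : L ⧸ T ν))
    exact (hT ν l).mp ((QuotientGroup.eq_one_iff l).mp (orderOf_eq_one_iff.mp h2))
  -- `x` does not act trivially
  have hx1 : rho L x ≠ 1 := by
    intro e
    have hcomm : ∀ c : D, (⟨x⁻¹ * c * x, by
        simpa using (inferInstance : D.Normal).conj_mem _ c.2 x⁻¹⟩ : D) * c⁻¹ ∈ commutator D :=
      fun c => mem_commutator_of_forall_hom fun κ => by
        rw [map_mul, map_inv, mul_inv_eq_one, ← rho_apply, e, MulAut.one_apply]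
    let m : D → D := fun c => (⟨x⁻¹ * c * x, by
      simpa using (inferInstance : D.Normal).conj_mem _ c.2 x⁻¹⟩ : D) * c⁻¹
    have hm : Function.Injective m := fun a b hab => by
      have e : x⁻¹ * (a : L) * x * (a : L)⁻¹ = x⁻¹ * (b : L) * x * (b : L)⁻¹ :=
        congrArg Subtype.val hab
      have hc : Commute x ((b : L)⁻¹ * a) := by
        show x * ((b : L)⁻¹ * a) = (b : L)⁻¹ * a * x
        calc x * ((b : L)⁻¹ * a) = (b : L)⁻¹ * x * (x⁻¹ * b * x * (b : L)⁻¹) * a := by group
          _ = (b : L)⁻¹ * x * (x⁻¹ * a * x * (a : L)⁻¹) * a := by rw [e]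
          _ = _ := by group
      exact Subtype.ext (inv_mul_eq_one.mp
        (h.eq_one_of_commute (D.mul_mem (D.inv_mem b.2) a.2) hc)).symm
    refine (Group.IsSolvable.commutator_lt_top_of_nontrivial D).ne (eq_top_iff.mpr fun z _ => ?_)
    obtain ⟨c, rfl⟩ := Finite.surjective_of_injective hm z
    exact hcomm c
  have hmove : ∃ a ∈ A, dualHom L τ * a * (dualHom L τ)⁻¹ ≠ a := by
    by_contra! hall
    have hu : rho L (τ u) = rho L u := by rw [← dualHom_conj]; exact hall _ ⟨u, rfl⟩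
    have hxw : rho L x = rho L w := by rw [h.hxu]; simp [hu]
    refine hx1 (orderOf_eq_one_iff.mp (Nat.eq_one_of_dvd_coprimes
      (h.hs.coprime_iff_not_dvd.mpr h.hw) ?_ (hxw ▸ orderOf_map_dvd _ w)))
    exact h.hxs ▸ orderOf_map_dvd _ x
  obtain ⟨hsemi, p, hp, hexp, hAp, hnum⟩ :=
    orbit_structure (V := Dual L) A hA (dualHom L τ) hγA h.hq hγ hfix hstab horb hmove
  have hker : ∀ ν : Dual L, ν ≠ 1 → ∀ l, rho L l ν = ν → rho L l = 1 :=
    fun ν hν l hl => hsemi ν hν _ ⟨l, rfl⟩ hl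
  have hTker : T ν₀ = (rho L).ker := by
    ext l
    rw [hT, MonoidHom.mem_ker]
    exact ⟨hker ν₀ hν₀ l, fun e => by rw [e]; rfl⟩
  obtain ⟨htop, hθ, -⟩ := h.stabilizer_facts ν₀ hν₀ _ (hT ν₀)
  rw [hTker] at htop hθ
  have := Fact.mk hp
  refine ⟨p, hp, ?_, ?_, hker, hθ, fun e => htop (Subgroup.index_eq_one.mp e), fun n hn hdvd => ?_⟩
  · -- the derived group is nilpotent with a `p`-group abelianisation
    have : Group.IsNilpotent D := by
      refine Coprime.isNilpotent_of_fixedPointFree_of_isSolvable inferInstance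
        (MulAut.conjNormal x : D ≃* D) (fun c hc => ?_) h.hs ?_
      · have hc' : x * (c : L) * x⁻¹ = c :=
          (MulAut.conjNormal_apply x c).symm.trans (congrArg Subtype.val hc)
        exact Subtype.ext (h.eq_one_of_commute c.2 (mul_inv_eq_iff_eq_mul.mp hc'))
      · show (MulAut.conjNormal x : MulAut D) ^ s = 1
        rw [← map_pow, ← h.hxs, pow_orderOf_eq_one, map_one]
    obtain ⟨P⟩ : Nonempty (Sylow p D) := inferInstance
    have : (P : Subgroup D).Normal :=
      P.normal_of_normalizerCondition Group.normalizerCondition_of_isNilpotent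
    by_cases hP : (P : Subgroup D) = ⊤
    · exact P.isPGroup'.of_equiv ((MulEquiv.subgroupCongr hP).trans Subgroup.topEquiv)
    exfalso
    have : Nontrivial (D ⧸ (P : Subgroup D)) := QuotientGroup.nontrivial_iff.mpr hP
    refine (Group.IsSolvable.commutator_lt_top_of_nontrivial (D ⧸ (P : Subgroup D))).ne
      (eq_top_iff.mpr fun z _ => mem_commutator_of_forall_hom fun κ => ?_)
    obtain ⟨z, rfl⟩ := QuotientGroup.mk'_surjective _ z
    have h1 : κ (QuotientGroup.mk' (P : Subgroup D) z) ^ p = 1 :=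
      DFunLike.congr_fun (hexp (κ.comp (QuotientGroup.mk' (P : Subgroup D)))) z
    have h2 : κ (QuotientGroup.mk' (P : Subgroup D) z) ^ (P : Subgroup D).index = 1 := by
      rw [← map_pow, Subgroup.index_eq_card, pow_card_eq_one', map_one]
    exact orderOf_eq_one_iff.mp (Nat.eq_one_of_dvd_coprimes
      (hp.coprime_iff_not_dvd.mpr P.not_dvd_index) (orderOf_dvd_of_pow_eq_one h1)
      (orderOf_dvd_of_pow_eq_one h2))
  · rw [Subgroup.index_ker]
    intro hd
    obtain ⟨a, ha⟩ := exists_prime_orderOf_dvd_card' p hd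
    have : a = 1 := Subtype.ext (hAp a a.2 (by
      rw [← SubgroupClass.coe_pow, ← ha, pow_orderOf_eq_one]; rfl))
    rw [this, orderOf_one] at ha
    exact hp.one_lt.ne ha
  · refine hnum n hn ?_
    rwa [fixRho, Subgroup.index_comap] at hdvd

end Hyp

end Cfsg.Agent.Lib.NoDivDeg
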