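import Cfsg.Agent.Lib.NoDivDeg.Fixed
import Cfsg.Agent.Lib.Clifford.Gallagher

/-!
Groups with a normal `s`-complement and non-abelian quotient whose non-linear degrees form an
antichain.
-/

set_option autoImplicit false

namespace Cfsg.Agent.Lib.NoDivDeg

open Cfsg
open Cfsg.Agent.Lib

variable {L : Type*} [Group L] [Fintype L]

theorem primePow_eq_of_anti {s : ℕ} (hs : s.Prime)
    (hanti : ∀ (θ θ' : IrrCharacter L) (c c' : ℕ), (θ : L → ℂ) 1 = c → (θ' : L → ℂ) 1 = c' →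
      1 < c → c ∣ c' → c = c')
    {a b N : ℕ} (ha : a ∣ s ^ N) (hb : b ∣ s ^ N) (ha1 : a ≠ 1) (hb1 : b ≠ 1)
    (hA : ∃ θ : IrrCharacter L, (θ : L → ℂ) 1 = a) (hB : ∃ θ : IrrCharacter L, (θ : L → ℂ) 1 = b) :
    a = b := by
  obtain ⟨i, -, rfl⟩ := (Nat.dvd_prime_pow hs).mp ha
  obtain ⟨j, -, rfl⟩ := (Nat.dvd_prime_pow hs).mp hb
  obtain ⟨θ, hθ⟩ := hA
  obtain ⟨θ', hθ'⟩ := hB
  have h1 : ∀ {n : ℕ}, s ^ n ≠ 1 → 1 < s ^ n := fun {n} hn => by
    have := pow_pos hs.pos n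
    omega
  rcases le_total i j with h | h
  · exact hanti θ θ' _ _ hθ hθ' (h1 ha1) (pow_dvd_pow s h)
  · exact (hanti θ' θ _ _ hθ' hθ (h1 hb1) (pow_dvd_pow s h)).symm

/-- All non-linear degrees are equal. -/
theorem equal_degrees_of_nonabelian_quotient (M : Subgroup L) [M.Normal] {s : ℕ} (hs : s.Prime)
    (hM : (Nat.card M).Coprime s) {N : ℕ} (hidx : M.index = s ^ N)
    (hna : ∃ a b : L ⧸ M, a * b ≠ b * a)
    (hanti : ∀ (θ θ' : IrrCharacter L) (c c' : ℕ), (θ : L → ℂ) 1 = c → (θ' : L → ℂ) 1 = c' →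
      1 < c → c ∣ c' → c = c')
    (θ θ' : IrrCharacter L) {c c' : ℕ} (hc : (θ : L → ℂ) 1 = c) (hc' : (θ' : L → ℂ) 1 = c')
    (h1 : c ≠ 1) (h1' : c' ≠ 1) : c = c' := by
  classical
  obtain ⟨β₀, hβ₀⟩ : ∃ β : IrrCharacter (L ⧸ M), (β : L ⧸ M → ℂ) 1 ≠ 1 := by
    by_contra! hall
    obtain ⟨a, b, hab⟩ := hna
    exact hab (CoprimeDegree.mul_comm_of_linear hall a b)
  obtain ⟨b₀, -, hb₀, hb₀d⟩ := Chars.irr_degree_dvd_card β₀
  rw [← Subgroup.index_eq_card, hidx] at hb₀d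
  have hb₀1 : b₀ ≠ 1 := fun e => hβ₀ (by rw [hb₀, e, Nat.cast_one])
  have hb₀L : ∃ χ : IrrCharacter L, (χ : L → ℂ) 1 = b₀ := ⟨Chars.inflate M β₀, hb₀⟩
  suffices ∀ (θ : IrrCharacter L) (c : ℕ), (θ : L → ℂ) 1 = c → c ≠ 1 → c = b₀ from
    (this θ c hc h1).trans (this θ' c' hc' h1').symm
  intro θ c hc h1
  have := Fintype.ofFinite M
  obtain ⟨φ, hφ⟩ := ThreeDegrees.exists_constituent M θ
  obtain ⟨b, hb0, hb⟩ := Chars.isIrrCharacter_exists_degree_pos φ.2
  set T := stabFun M (φ : M → ℂ) with hTdef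
  have hMT : M ≤ T := le_stabFun φ
  have := Fintype.ofFinite T
  let M' : Subgroup T := M.subgroupOf T
  have := Fintype.ofFinite M'
  let eM : M' ≃* M := Subgroup.subgroupOfEquivOfLe hMT
  obtain ⟨i, -, hi⟩ : ∃ i ≤ N, T.index = s ^ i :=
    (Nat.dvd_prime_pow hs).mp (hidx ▸ Subgroup.index_dvd_of_le hMT)
  obtain ⟨j, -, hj⟩ : ∃ j ≤ N, M'.index = s ^ j :=
    (Nat.dvd_prime_pow hs).mp (hidx ▸ Subgroup.relIndex_dvd_index_of_normal M T)
  have hirr : IsIrrCharacter M' (fun z => (φ : M → ℂ) (eM z)) :=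
    Clifford.isIrrCharacter_comp_equiv eM φ.2
  obtain ⟨χ, hχ, hres⟩ := OddChar.exists_extension_of_coprime (G := T) (N := M') hirr
    (fun g => funext fun z => congrFun (g.2 : Clifford.conjFun (g : L) (φ : M → ℂ) = φ) (eM z))
    (by
      rw [hj, Nat.card_congr eM.toEquiv]
      exact hM.symm.pow_left j)
  have hχ1 : χ 1 = b := by
    have := hres 1
    rw [OneMemClass.coe_one, map_one, hb] at this
    exact this
  have hresM : ∀ m : M, χ ⟨(m : L), hMT m.2⟩ = (φ : M → ℂ) m := fun m =>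
    (hres ⟨⟨(m : L), hMT m.2⟩, m.2⟩).trans (congrArg (φ : M → ℂ) (Subtype.ext rfl))
  -- inducing a character over `φ`
  have hind : ∀ β : IrrCharacter (T ⧸ M'), IsIrrCharacter L
      (indFun T (χ * (Chars.inflate M' β : T → ℂ))) := by
    intro β
    have hχM : IsIrrCharacter M' (Clifford.resFun M' χ) := by
      rw [show Clifford.resFun M' χ = fun z => (φ : M → ℂ) (eM z) from funext hres]
      exact hirr
    refine Clifford.isIrrCharacter_indFun_inertia φ.2 (fun g => Iff.rfl) hMT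
      ((Clifford.gallagher hχ hχM).1 β) ?_
    have h2 : Clifford.resTo hMT (χ * (Chars.inflate M' β : T → ℂ)) =
        ((β : T ⧸ M' → ℂ) 1) • (φ : M → ℂ) := funext fun m => by
      show χ ⟨(m : L), hMT m.2⟩ * (β : T ⧸ M' → ℂ) ((⟨(m : L), hMT m.2⟩ : T) : T ⧸ M') = _
      rw [hresM, (QuotientGroup.eq_one_iff _).mpr (show (⟨(m : L), hMT m.2⟩ : T) ∈ M' from m.2),
        Pi.smul_apply, smul_eq_mul, mul_comm]
    rw [h2, Chars.classInner_smul_left, Chars.classInner_irr_self φ, mul_one]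
    exact Chars.irr_apply_one_ne_zero β
  have hdegree : ∀ (β : IrrCharacter (T ⧸ M')) (e : ℕ), (β : T ⧸ M' → ℂ) 1 = e →
      ∃ F : IrrCharacter L, (F : L → ℂ) 1 = ((T.index * (b * e) : ℕ) : ℂ) := by
    intro β e he
    refine ⟨⟨_, hind β⟩, ?_⟩
    show indFun T _ 1 = _
    rw [Chars.indFun_one_eq, Pi.mul_apply, hχ1,
      show (Chars.inflate M' β : T → ℂ) 1 = (β : T ⧸ M' → ℂ) 1 from rfl, he]
    push_cast
    ring
  set F : IrrCharacter L := ⟨_, hind (Chars.trivialIrr (T ⧸ M'))⟩ with hFdef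
  have hF : (F : L → ℂ) 1 = ((T.index * b : ℕ) : ℂ) := by
    show indFun T _ 1 = _
    rw [Chars.indFun_one_eq, Pi.mul_apply, hχ1,
      show (Chars.inflate M' (Chars.trivialIrr (T ⧸ M')) : T → ℂ) 1 =
        (Chars.trivialIrr (T ⧸ M') : T ⧸ M' → ℂ) 1 from rfl]
    simp
  obtain ⟨e, he⟩ := Chars.isCharacter_classInner_nat
    (Chars.isCharacter_restrict M (Chars.irr_isCharacter θ)) (Chars.irr_isCharacter φ)
  have h2 := Clifford.apply_one_eq θ.2 φ.2 hφ T (fun g => Iff.rfl)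
  rw [hc, show classInner (Clifford.resFun M (θ : L → ℂ)) (φ : M → ℂ) = (e : ℂ) from he, hb] at h2
  have hce : c = e * (T.index * b) := by exact_mod_cast h2
  by_cases hone : T.index * b = 1
  · -- `φ` is linear and extends to `L`
    have htop : T = ⊤ := Subgroup.index_eq_one.mp (Nat.eq_one_of_mul_eq_one_right hone)
    have hb1 : b = 1 := Nat.eq_one_of_mul_eq_one_left hone
    have hFres : Clifford.resFun M (F : L → ℂ) = (φ : M → ℂ) := by
      funext m
      show (F : L → ℂ) m = _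
      have hmem : ∀ g : L, g⁻¹ * (m : L) * g ∈ T := fun g => htop ▸ Subgroup.mem_top _
      show indFun T (χ * (Chars.inflate M' (Chars.trivialIrr (T ⧸ M')) : T → ℂ)) (m : L) = _
      rw [indFun_eq_index_mul T _ (c := (φ : M → ℂ) m) hmem (fun g => ?_),
        Nat.eq_one_of_mul_eq_one_right hone, Nat.cast_one, one_mul]
      have hgm : g⁻¹ * (m : L) * g ∈ M := by
        simpa using (inferInstance : M.Normal).conj_mem _ m.2 g⁻¹
      rw [Pi.mul_apply, hresM ⟨_, hgm⟩,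
        show (Chars.inflate M' (Chars.trivialIrr (T ⧸ M')) : T → ℂ) ⟨_, hmem g⟩ =
          (Chars.trivialIrr (T ⧸ M') : T ⧸ M' → ℂ) ((⟨_, hmem g⟩ : T) : T ⧸ M') from rfl]
      have hinv : Clifford.conjFun g⁻¹ (φ : M → ℂ) = φ :=
        (htop ▸ Subgroup.mem_top g⁻¹ : g⁻¹ ∈ T)
      have h3 := congrFun hinv m
      simp only [Clifford.conjFun, inv_inv] at h3
      simp [h3]
    obtain ⟨β, hβ⟩ := ((Clifford.gallagher F.2 (hFres ▸ φ.2)).2.2 _ θ.2).mp (hFres ▸ hφ)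
    obtain ⟨cb, -, hcb, hcbd⟩ := Chars.irr_degree_dvd_card β
    rw [← Subgroup.index_eq_card, hidx] at hcbd
    have hcc : c = cb := by
      have h3 := congrFun hβ 1
      rw [hc, Pi.mul_apply, hF, hone, Nat.cast_one, one_mul,
        show (Chars.inflate M β : L → ℂ) 1 = (β : L ⧸ M → ℂ) 1 from rfl, hcb] at h3
      exact_mod_cast h3
    exact primePow_eq_of_anti hs hanti (hcc ▸ hcbd) hb₀d h1 hb₀1 ⟨θ, hc⟩ hb₀L
  · have hpos : 1 < T.index * b := by
      have := Nat.mul_pos (Nat.pos_of_ne_zero (Subgroup.index_ne_zero_of_finite (H := T))) hb0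
      omega
    have hcF : T.index * b = c := hanti F θ _ _ hF hc hpos ⟨e, by rw [hce, mul_comm]⟩
    -- `T / M` is commutative
    have hlin : ∀ β : IrrCharacter (T ⧸ M'), (β : T ⧸ M' → ℂ) 1 = 1 := by
      intro β
      obtain ⟨eb, -, heb⟩ := Chars.isIrrCharacter_exists_degree_pos β.2
      obtain ⟨F', hF'⟩ := hdegree β eb heb
      have h3 := hanti F F' _ _ hF hF' hpos ⟨eb, (mul_assoc _ _ _).symm⟩
      rw [← mul_assoc, eq_comm, mul_eq_left₀ (by omega)] at h3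
      rw [heb, h3, Nat.cast_one]
    set A := T.map (QuotientGroup.mk' M) with hAdef
    have : IsMulCommutative A := ⟨⟨fun a a' => by
      obtain ⟨a, ha⟩ := a; obtain ⟨a', ha'⟩ := a'
      obtain ⟨t, ht, rfl⟩ := Subgroup.mem_map.mp ha
      obtain ⟨t', ht', rfl⟩ := Subgroup.mem_map.mp ha'
      have h3 := CoprimeDegree.mul_comm_of_linear hlin ((⟨t, ht⟩ : T) : T ⧸ M')
        ((⟨t', ht'⟩ : T) : T ⧸ M')
      rw [← QuotientGroup.mk_mul, ← QuotientGroup.mk_mul, QuotientGroup.eq] at h3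
      apply Subtype.ext
      show QuotientGroup.mk' M t * QuotientGroup.mk' M t' =
        QuotientGroup.mk' M t' * QuotientGroup.mk' M t
      rw [← map_mul, ← map_mul, QuotientGroup.mk'_apply, QuotientGroup.mk'_apply, QuotientGroup.eq]
      exact h3⟩⟩
    have hle : b₀ ≤ T.index := by
      have h3 := Codegree.card_mul_degree_le β₀ A hb₀
      rw [← A.card_mul_index, hAdef,
        Subgroup.index_map_eq _ (QuotientGroup.mk'_surjective M) (by
          rw [QuotientGroup.ker_mk']; exact hMT)] at h3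
      exact Nat.le_of_mul_le_mul_left h3 Nat.card_pos
    obtain ⟨k, -, hk⟩ := (Nat.dvd_prime_pow hs).mp hb₀d
    have hdvd : b₀ ∣ c := by
      rw [← hcF, hk, hi]
      refine dvd_mul_of_dvd_left (pow_dvd_pow s ?_) b
      rw [hk, hi] at hle
      exact (Nat.pow_le_pow_iff_right hs.one_lt).mp hle
    obtain ⟨χ₀, hχ₀⟩ := hb₀L
    refine (hanti χ₀ θ _ _ hχ₀ hc ?_ hdvd).symm
    have : 0 < b₀ := by rw [hk]; exact pow_pos hs.pos k
    omega

end Cfsg.Agent.Lib.NoDivDeg
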