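import Cfsg.Agent.Lib.NoDivDeg.AbelianQuot
import Cfsg.Agent.Lib.NoDivDeg.NonabelianQuot
import Cfsg.Agent.Lib.SolvDegrees.Graph
import Cfsg.Agent.S4456

/-!
Solvable groups without divisibilities among degrees and with a disconnected degree graph have
three degrees.
-/

set_option autoImplicit false

namespace Cfsg.Agent.Lib.NoDivDeg

open Cfsg
open Cfsg.Agent.Lib
open Cfsg.Agent.Lib.SolvDegrees (HasDeg hasDeg_iff mem_degreePrimes reachable_of_dvd FrobSection
  exists_pQuotient_or_frobSection exists_deg_mul mul_index_hasDeg hasDeg_dvd_of_constituent)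
open scoped commutatorElement

/-- The normal `s`-complement consists of the elements of order prime to `s`. -/
theorem mem_complement_iff {L : Type*} [Group L] [Finite L] {M : Subgroup L} [M.Normal] {s N : ℕ}
    (hM : (Nat.card M).Coprime s) (hidx : M.index = s ^ N) {y : L} :
    y ∈ M ↔ (orderOf y).Coprime s := by
  refine ⟨fun hy => hM.coprime_dvd_left (Subgroup.orderOf_dvd_natCard _ hy), fun hy => ?_⟩
  rw [← QuotientGroup.eq_one_iff, ← orderOf_eq_one_iff]
  refine Nat.eq_one_of_dvd_coprimes (hy.pow_right N) (orderOf_map_dvd (QuotientGroup.mk' M) y) ?_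
  rw [← hidx, Subgroup.index_eq_card]
  exact orderOf_dvd_natCard _

universe u

/-- The non-linear degrees of the kernel of the Frobenius section coincide. -/
theorem equal_degrees_L {G : Type u} [Group G] [Fintype G] [Group.IsSolvable G] {K L : Subgroup G}
    {s : ℕ} (h : FrobSection K L s) [Fintype L]
    (hsdvd : ∀ (θ : IrrCharacter L) (c : ℕ), (θ : L → ℂ) 1 = c → c ≠ 1 → s ∣ c)
    (hsf : ¬ s ∣ L.index)
    (hcop : ∀ (θ : IrrCharacter L) (c : ℕ), (θ : L → ℂ) 1 = c → c ≠ 1 → c.Coprime L.index)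
    (hinv : ∀ (θ : IrrCharacter L), (θ : L → ℂ) 1 ≠ 1 → ∀ (g : G) (l : L),
      (θ : L → ℂ) ⟨g * l * g⁻¹, h.hLn.conj_mem _ l.2 g⟩ = (θ : L → ℂ) l)
    (hanti : ∀ (θ θ' : IrrCharacter L) (c c' : ℕ), (θ : L → ℂ) 1 = c → (θ' : L → ℂ) 1 = c' →
      1 < c → c ∣ c' → c = c')
    (θ θ' : IrrCharacter L) {c c' : ℕ} (hc : (θ : L → ℂ) 1 = c) (hc' : (θ' : L → ℂ) 1 = c')
    (h1 : c ≠ 1) (h1' : c' ≠ 1) : c = c' := by
  classical
  have := h.hKn
  have := h.hLn
  obtain ⟨M, hMn, hMs, N, hidx⟩ := S4456.result (G := L) s h.hprime (fun χ hχ => by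
    obtain ⟨c, hc⟩ := Chars.isCharacter_exists_degree (Chars.irr_isCharacter χ)
    rw [Codegree.charDegree_eq hc] at hχ ⊢
    exact hsdvd χ c hc hχ)
  by_cases hna : ∃ a b : L ⧸ M, a * b ≠ b * a
  · exact equal_degrees_of_nonabelian_quotient M h.hprime hMs hidx hna hanti θ θ' hc hc' h1 h1'
  push Not at hna
  have hDM : commutator L ≤ M := by
    refine Subgroup.commutator_le.mpr fun a _ b _ => (QuotientGroup.eq_one_iff _).mp ?_
    exact (map_commutatorElement (QuotientGroup.mk' M) a b).trans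
      (commutatorElement_eq_one_iff_mul_comm.mpr (hna _ _))
  have hsM : ¬ s ∣ Nat.card M := h.hprime.coprime_iff_not_dvd.mp hMs.symm
  -- `M` lies in `K`
  have hMK : ∀ y ∈ M, (y : G) ∈ K := by
    intro y hy
    obtain ⟨a, ha⟩ := h.hcard
    have h2 : orderOf (QuotientGroup.mk' (K.subgroupOf L) y) ∣ s ^ a := by
      rw [← ha]
      exact (orderOf_dvd_natCard _).trans (dvd_of_eq (Subgroup.index_eq_card _).symm)
    exact Subgroup.mem_subgroupOf.mp ((QuotientGroup.eq_one_iff y).mp (orderOf_eq_one_iff.mp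
      (Nat.eq_one_of_dvd_coprimes (((mem_complement_iff hMs hidx).mp hy).pow_right a)
        (orderOf_map_dvd (QuotientGroup.mk' (K.subgroupOf L)) y) h2)))
  -- an element of prime power order outside `L`
  have hind : L.index ≠ 1 := fun e => h.htop (Subgroup.index_eq_one.mp e)
  set q := L.index.minFac with hqdef
  have hq : q.Prime := Nat.minFac_prime hind
  have hqf : q ∣ L.index := Nat.minFac_dvd _
  have := Fact.mk hq
  obtain ⟨gb, hgb⟩ := exists_prime_orderOf_dvd_card' (G := G ⧸ L) q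
    (Subgroup.index_eq_card L ▸ hqf)
  obtain ⟨g₀, rfl⟩ := QuotientGroup.mk_surjective gb
  have hn0 : orderOf g₀ ≠ 0 := (orderOf_pos g₀).ne'
  set v := (orderOf g₀).factorization q
  set g := g₀ ^ (orderOf g₀ / q ^ v) with hgdef
  have hgo : orderOf g = q ^ v := by
    rw [hgdef, orderOf_pow' _ (Nat.ordCompl_pos q hn0).ne',
      Nat.gcd_eq_right (Nat.ordCompl_dvd _ _)]
    exact Nat.div_div_self (Nat.ordProj_dvd _ _) hn0
  have hgL : g ∉ L := fun hmem => by
    refine Nat.not_dvd_ordCompl hq hn0 ?_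
    refine hgb.symm.dvd.trans (orderOf_dvd_of_pow_eq_one ?_)
    rw [← QuotientGroup.mk_pow, QuotientGroup.eq_one_iff]
    exact hmem
  set τ : MulAut L := MulAut.conjNormal g with hτdef
  have hτg : ∀ l : L, ((τ l : L) : G) = g * l * g⁻¹ := fun l => MulAut.conjNormal_apply g l
  have hτpow : τ ^ q ^ v = 1 := by rw [hτdef, ← map_pow, ← hgo, pow_orderOf_eq_one, map_one]
  have hτM : ∀ y ∈ M, τ y ∈ M := fun y hy => by
    rw [mem_complement_iff hMs hidx, MulEquiv.orderOf_eq]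
    exact (mem_complement_iff hMs hidx).mp hy
  let π := QuotientGroup.mk' M
  -- an element moved modulo `M`
  obtain ⟨l₀, hl₀⟩ : ∃ l₀ : L, π (τ l₀ * l₀⁻¹) ≠ 1 := by
    by_contra! hall
    refine h.hne (le_antisymm h.hle fun l hl => h.fpf g hgL l hl ?_)
    have h2 := hMK _ ((QuotientGroup.eq_one_iff _).mp (hall ⟨l, hl⟩))
    rw [Subgroup.coe_mul, Subgroup.coe_inv, hτg] at h2
    exact h2
  obtain ⟨a, -, ha⟩ := (Nat.dvd_prime_pow h.hprime).mp
    ((orderOf_dvd_natCard (π (τ l₀ * l₀⁻¹))).trans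
      (dvd_of_eq ((Subgroup.index_eq_card M).symm.trans hidx)))
  rcases a with _ | a
  · exact absurd (orderOf_eq_one_iff.mp (by rw [ha, pow_zero])) hl₀
  -- a power of order `s` modulo `M`
  have hpowτ : ∀ (l : L) (i : ℕ), π ((τ l * l⁻¹) ^ i) = π (τ (l ^ i) * (l ^ i)⁻¹) := by
    intro l i
    rw [map_pow, map_mul π, map_mul π, map_inv, map_inv, map_pow τ, map_pow π, map_pow π,
      ← inv_pow]
    exact (show Commute (π (τ l)) (π l)⁻¹ from hna _ _).mul_pow i
  set y₁ := (τ l₀ * l₀⁻¹) ^ s ^ a with hy₁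
  have hy₁o : orderOf (π y₁) = s := by
    rw [hy₁, map_pow, orderOf_pow' _ (pow_ne_zero a h.hprime.ne_zero), ha,
      Nat.gcd_eq_right (pow_dvd_pow s (Nat.le_succ a)), pow_succ,
      Nat.mul_div_cancel_left _ (pow_pos h.hprime.pos a)]
  -- its `s`-part
  set n := orderOf y₁ with hn
  have hn' : n ≠ 0 := (orderOf_pos y₁).ne'
  set m' := n / s ^ n.factorization s with hm'
  set x := y₁ ^ m' with hx
  have hsm' : ¬ s ∣ m' := Nat.not_dvd_ordCompl h.hprime hn'
  have hxo' : orderOf x = s ^ n.factorization s := by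
    rw [hx, orderOf_pow' _ (Nat.ordCompl_pos s hn').ne', ← hn,
      Nat.gcd_eq_right (Nat.ordCompl_dvd _ _)]
    exact Nat.div_div_self (Nat.ordProj_dvd _ _) hn'
  have hxπ : orderOf (π x) = s := by
    rw [hx, map_pow, orderOf_pow' _ (Nat.ordCompl_pos s hn').ne', hy₁o,
      show Nat.gcd s m' = 1 from h.hprime.coprime_iff_not_dvd.mpr hsm', Nat.div_one]
  have hxs : orderOf x = s := by
    have hmem : x ^ s ∈ M := by
      rw [← QuotientGroup.eq_one_iff]
      show π (x ^ s) = 1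
      rw [map_pow, ← hxπ, pow_orderOf_eq_one]
    have h2 : orderOf (x ^ s) = 1 := Nat.eq_one_of_dvd_coprimes
      (((mem_complement_iff hMs hidx).mp hmem).pow_right (n.factorization s)) dvd_rfl
      (hxo' ▸ orderOf_pow_dvd s)
    refine orderOf_eq_prime (hp := ⟨h.hprime⟩) (orderOf_eq_one_iff.mp h2) fun e => ?_
    rw [e, map_one, orderOf_one] at hxπ
    exact h.hprime.one_lt.ne hxπ
  set u := (l₀ ^ s ^ a) ^ m' with hu
  have hxu : π x = π (τ u * u⁻¹) := by
    rw [hx, map_pow, hy₁, hpowτ, ← map_pow, hpowτ]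
  set w := (τ u * u⁻¹)⁻¹ * x with hw
  have hwM : w ∈ M := by
    rw [← QuotientGroup.eq_one_iff]
    show π w = 1
    rw [hw, map_mul, map_inv, ← hxu, inv_mul_cancel]
  have hqs : q ≠ s := fun e => hsf (e ▸ hqf)
  have hxτ : τ x * x⁻¹ ∉ commutator L := by
    intro hmem
    have hfix : π (τ x) = π x := by
      have h2 : π (τ x * x⁻¹) = 1 := (QuotientGroup.eq_one_iff _).mpr (hDM hmem)
      rwa [map_mul, map_inv, mul_inv_eq_one] at h2
    -- `τ` induces a map on `L / M`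
    have hind : ∀ z z' : L, π z = π z' → π (τ z) = π (τ z') := by
      intro z z' e
      have h2 := hτM _ (QuotientGroup.eq.mp e)
      rw [map_mul, map_inv] at h2
      exact QuotientGroup.eq.mpr h2
    have hfix' : ∀ i, π (τ (x ^ i)) = π (x ^ i) := fun i => by
      rw [map_pow τ, map_pow π, hfix, ← map_pow π]
    have hiter : ∀ i : ℕ, π ((τ ^ i) u) = π (x ^ i * u) := by
      intro i
      induction i with
      | zero => simp
      | succ i ih =>
        rw [pow_succ' τ, MulAut.mul_apply, hind _ _ ih, map_mul τ, map_mul π, hfix',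
          show π (τ u) = π x * π u by rw [hxu, map_mul, map_inv, inv_mul_cancel_right],
          ← map_mul π, ← map_mul π, ← mul_assoc, ← pow_succ]
    have h2 := hiter (q ^ v)
    rw [hτpow, MulAut.one_apply, map_mul, map_pow, right_eq_mul] at h2
    have h3 := Nat.eq_one_of_dvd_coprimes (((Nat.coprime_primes hq h.hprime).mpr hqs).pow_left v)
      (orderOf_dvd_of_pow_eq_one h2) hxπ.dvd
    rw [hxπ] at h3
    exact h.hprime.one_lt.ne' h3
  have hyp : Hyp L τ q v s x u w :=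
    { hq := hq
      hτ := hτpow
      hinv := fun θ hθ l => (congrArg (θ : L → ℂ) (Subtype.ext (hτg l))).trans (hinv θ hθ g l)
      hdeg := fun θ c hc hc1 hqc =>
        hq.one_lt.ne' (Nat.eq_one_of_dvd_coprimes (hcop θ c hc hc1) hqc hqf)
      hanti := hanti
      hs := h.hprime
      hxs := hxs
      hsD := fun e => hsM (e.trans (Subgroup.card_dvd_of_le hDM))
      hxu := by rw [hw, mul_inv_cancel_left]
      hw := fun e => hsM (e.trans (Subgroup.orderOf_dvd_natCard _ hwM))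
      hxτ := hxτ }
  exact hyp.equal_degrees θ θ' hc hc' h1 h1'

theorem card_charDegrees_eq_three {G : Type u} [Group G] [Finite G] [Group.IsSolvable G]
    (hnd : ∀ a ∈ charDegrees G, ∀ b ∈ charDegrees G, 1 < a → a < b → ¬ a ∣ b)
    (htwo : Nat.card ((degreeGraph G).induce (degreePrimes G)).ConnectedComponent = 2) :
    Nat.card ↥(charDegrees G) = 3 := by
  classical
  cases nonempty_fintype G
  set Γ := (degreeGraph G).induce (degreePrimes G)
  have hanti : ∀ {a b : ℕ}, HasDeg G a → HasDeg G b → 1 < a → 0 < b → a ∣ b → a = b := by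
    intro a b ha hb h1 h0 hdvd
    rcases lt_or_eq_of_le (Nat.le_of_dvd h0 hdvd) with hlt | he
    · exact absurd hdvd (hnd a (hasDeg_iff.1 ha) b (hasDeg_iff.1 hb) h1 hlt)
    · exact he
  have hpos : ∀ {n : ℕ}, HasDeg G n → 0 < n := fun {n} ⟨χ, hχ⟩ => Nat.pos_of_ne_zero fun e =>
    Chars.irr_apply_one_ne_zero χ (by rw [hχ, e, Nat.cast_zero])
  -- not all primes are connected
  have hconn : ∀ v1 : degreePrimes G, ¬ ∀ v, Γ.Reachable v v1 := by
    intro v1 hall
    have hsub : Subsingleton Γ.ConnectedComponent := ⟨fun c d => by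
      refine c.ind fun v => d.ind fun w => ?_
      exact SimpleGraph.ConnectedComponent.sound ((hall v).trans (hall w).symm)⟩
    have := Finite.card_le_one_iff_subsingleton.mpr hsub
    omega
  obtain ⟨⟨c₀⟩⟩ : Nonempty Γ.ConnectedComponent ∧ True :=
    ⟨(Nat.card_pos_iff.mp (by rw [htwo]; norm_num)).1, trivial⟩
  obtain ⟨v₀, -⟩ := c₀.exists_rep
  have hna : ∃ a b : G, a * b ≠ b * a := by
    by_contra! hcomm
    obtain ⟨hq, n, hn, hqn⟩ := v₀.2
    obtain ⟨χ, hχ⟩ := hasDeg_iff.2 hn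
    haveI : IsMulCommutative G := ⟨⟨hcomm⟩⟩
    rw [Chars.irr_apply_one_of_comm χ] at hχ
    have : n = 1 := by exact_mod_cast hχ.symm
    rw [this, Nat.dvd_one] at hqn
    exact hq.ne_one hqn
  rcases exists_pQuotient_or_frobSection hna with ⟨K, hK, p, hp, hQ, hnab⟩ | ⟨K, L, s, h⟩
  · exfalso
    haveI := hK
    obtain ⟨n₁, hp1, -, hn₁⟩ := exists_deg_mul K hp hQ hnab (Chars.linIrr 1)
      (c := 1) (by simp [Chars.linIrr]) hp.not_dvd_one
    let vp : degreePrimes G := ⟨p, mem_degreePrimes hp hn₁ hp1⟩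
    refine hconn vp fun v => ?_
    obtain ⟨hq, n, hn, hqn⟩ := v.2
    by_cases hpn : p ∣ n
    · exact reachable_of_dvd v vp (hasDeg_iff.2 hn) hqn hpn
    obtain ⟨χ, hχ⟩ := hasDeg_iff.2 hn
    obtain ⟨m, hpm, hnm, hm⟩ := exists_deg_mul K hp hQ hnab χ hχ hpn
    exact reachable_of_dvd v vp hm (hqn.trans hnm) hpm
  have := h.hLn
  have := Fintype.ofFinite L
  have hind : L.index ≠ 1 := fun e => h.htop (Subgroup.index_eq_one.1 e)
  have hf1 : 1 < L.index := by
    have := Subgroup.index_ne_zero_of_finite (H := L)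
    omega
  have hfdeg : HasDeg G L.index := by
    have := mul_index_hasDeg h (Chars.linIrr 1) (d := 1) (by simp [Chars.linIrr]) h.hprime.not_dvd_one
    rwa [mul_one] at this
  let v1 : degreePrimes G :=
    ⟨L.index.minFac, mem_degreePrimes (Nat.minFac_prime hind) hfdeg (Nat.minFac_dvd _)⟩
  -- degrees over a character of `L`
  have hsdvd : ∀ (θ : IrrCharacter L) (d : ℕ), (θ : L → ℂ) 1 = d → d ≠ 1 → s ∣ d := by
    intro θ d hd hd1
    by_contra hsd
    have hd0 : 0 < d := Nat.pos_of_ne_zero fun e =>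
      Chars.irr_apply_one_ne_zero θ (by rw [hd, e, Nat.cast_zero])
    have h2 := hanti hfdeg (mul_index_hasDeg h θ hd hsd) hf1 (Nat.mul_pos (by omega) hd0)
      (dvd_mul_right _ _)
    exact hd1 ((mul_eq_left₀ (by omega)).mp h2.symm)
  have hover : ∀ c, HasDeg G c → c ≠ 1 → c ≠ L.index →
      ∃ (φ : IrrCharacter L) (d : ℕ), (φ : L → ℂ) 1 = d ∧ d ≠ 1 ∧ d ∣ c ∧ c ∣ L.index * d := by
    intro c hc hc1 hcf
    obtain ⟨χ, hχ⟩ := hc
    obtain ⟨φ, d, hd, -, hdc, hcd⟩ := hasDeg_dvd_of_constituent L χ hχ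
    refine ⟨φ, d, hd, fun e => hcf ?_, hdc, hcd⟩
    rw [e, mul_one] at hcd
    have := hpos (⟨χ, hχ⟩ : HasDeg G c)
    exact hanti ⟨χ, hχ⟩ hfdeg (by omega) (by omega) hcd
  have hsc : ∀ c, HasDeg G c → c ≠ 1 → c ≠ L.index → s ∣ c := fun c hc hc1 hcf => by
    obtain ⟨φ, d, hd, hd1, hdc, -⟩ := hover c hc hc1 hcf
    exact (hsdvd φ d hd hd1).trans hdc
  have hsf : ¬ s ∣ L.index := by
    intro hsf
    let vs : degreePrimes G := ⟨s, mem_degreePrimes h.hprime hfdeg hsf⟩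
    have hvs : Γ.Reachable vs v1 := reachable_of_dvd vs v1 hfdeg hsf (Nat.minFac_dvd _)
    refine hconn v1 fun v => ?_
    obtain ⟨hq, n, hn, hqn⟩ := v.2
    by_cases hnf : n = L.index
    · exact reachable_of_dvd v v1 hfdeg (hnf ▸ hqn) (Nat.minFac_dvd _)
    have hn1 : n ≠ 1 := fun e => hq.ne_one (Nat.dvd_one.mp (e ▸ hqn))
    exact (reachable_of_dvd v vs (hasDeg_iff.2 hn) hqn (hsc n (hasDeg_iff.2 hn) hn1 hnf)).trans hvs
  have hcop : ∀ c, HasDeg G c → c ≠ 1 → c ≠ L.index → c.Coprime L.index := by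
    intro c₁ hc₁ hc1 hcf
    by_contra hnc
    obtain ⟨r, hr, hrc, hrf⟩ := Nat.Prime.not_coprime_iff_dvd.mp hnc
    let vr : degreePrimes G := ⟨r, mem_degreePrimes hr hc₁ hrc⟩
    let vs : degreePrimes G := ⟨s, mem_degreePrimes h.hprime hc₁ (hsc c₁ hc₁ hc1 hcf)⟩
    have hvs : Γ.Reachable vs v1 :=
      (reachable_of_dvd vs vr hc₁ (hsc c₁ hc₁ hc1 hcf) hrc).trans
        (reachable_of_dvd vr v1 hfdeg hrf (Nat.minFac_dvd _))
    refine hconn v1 fun v => ?_
    obtain ⟨hq, n, hn, hqn⟩ := v.2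
    by_cases hnf : n = L.index
    · exact reachable_of_dvd v v1 hfdeg (hnf ▸ hqn) (Nat.minFac_dvd _)
    have hn1 : n ≠ 1 := fun e => hq.ne_one (Nat.dvd_one.mp (e ▸ hqn))
    exact (reachable_of_dvd v vs (hasDeg_iff.2 hn) hqn (hsc n (hasDeg_iff.2 hn) hn1 hnf)).trans hvs
  obtain ⟨c₁, hc₁, hc₁1, hc₁f⟩ : ∃ c, HasDeg G c ∧ c ≠ 1 ∧ c ≠ L.index := by
    by_contra! hall
    refine hconn v1 fun v => ?_
    obtain ⟨hq, n, hn, hqn⟩ := v.2
    have hn1 : n ≠ 1 := fun e => hq.ne_one (Nat.dvd_one.mp (e ▸ hqn))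
    exact reachable_of_dvd v v1 hfdeg (hall n (hasDeg_iff.2 hn) hn1 ▸ hqn) (Nat.minFac_dvd _)
  -- non-linear characters of `L`
  have hL : ∀ (θ : IrrCharacter L) (d : ℕ), (θ : L → ℂ) 1 = d → d ≠ 1 →
      HasDeg G d ∧ d.Coprime L.index ∧ ∀ (g : G) (l : L),
        (θ : L → ℂ) ⟨g * l * g⁻¹, h.hLn.conj_mem _ l.2 g⟩ = (θ : L → ℂ) l := by
    intro θ d hd hd1
    obtain ⟨χ, hχ⟩ := ThreeDegrees.exists_over L θ
    obtain ⟨c, hc⟩ := Chars.isCharacter_exists_degree (Chars.irr_isCharacter χ)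
    obtain ⟨h1, h2⟩ := ThreeDegrees.constituent_dvd L χ θ hχ
    rw [Codegree.charDegree_eq hc, Codegree.charDegree_eq hd] at h1 h2
    have hsd := hsdvd θ d hd hd1
    have hc1 : c ≠ 1 := fun e => hd1 (Nat.dvd_one.mp (e ▸ h1))
    have hcf : c ≠ L.index := fun e => hsf (e ▸ hsd.trans h1)
    have hco := hcop c ⟨χ, hc⟩ hc1 hcf
    have hcd : c = d := Nat.eq_of_dvd_of_div_eq_one h1
      (Nat.eq_one_of_dvd_coprimes hco (Nat.div_dvd_of_dvd h1) h2) |>.symm
    subst hcd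
    refine ⟨⟨χ, hc⟩, hco, fun g l => ?_⟩
    have hres := (CoprimeDegree.constituent_degree_le (Chars.irr_isCharacter χ) L θ hχ hc hd).2 rfl
    rw [← hres]
    show (χ : G → ℂ) (g * l * g⁻¹) = (χ : G → ℂ) l
    exact Chars.irr_isClassFunction χ (l : G) g
  have hantiL : ∀ (θ θ' : IrrCharacter L) (c c' : ℕ), (θ : L → ℂ) 1 = c → (θ' : L → ℂ) 1 = c' →
      1 < c → c ∣ c' → c = c' := by
    intro θ θ' c c' hc hc' h1 hdvd
    by_cases h1' : c' = 1
    · exact absurd (Nat.dvd_one.mp (h1' ▸ hdvd)) (by omega)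
    have hD := (hL θ' c' hc' h1').1
    exact hanti (hL θ c hc (by omega)).1 hD h1 (hpos hD) hdvd
  have hone : ∀ c, HasDeg G c → c ≠ 1 → c ≠ L.index → c = c₁ := by
    intro c hc hc1 hcf
    have aux : ∀ c, HasDeg G c → c ≠ 1 → c ≠ L.index →
        ∃ θ : IrrCharacter L, (θ : L → ℂ) 1 = c := by
      intro c hc hc1 hcf
      obtain ⟨φ, d, hd, hd1, hdc, hcd⟩ := hover c hc hc1 hcf
      have : c = d := Nat.dvd_antisymm ((hcop c hc hc1 hcf).dvd_of_dvd_mul_left hcd) hdc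
      exact ⟨φ, this ▸ hd⟩
    obtain ⟨θ, hθ⟩ := aux c hc hc1 hcf
    obtain ⟨θ', hθ'⟩ := aux c₁ hc₁ hc₁1 hc₁f
    exact equal_degrees_L h hsdvd hsf (fun θ c hc h1 => (hL θ c hc h1).2.1)
      (fun θ hθ => by
        obtain ⟨d, hd⟩ := Chars.isCharacter_exists_degree (Chars.irr_isCharacter θ)
        exact (hL θ d hd (fun e => hθ (by rw [hd, e, Nat.cast_one]))).2.2)
      hantiL θ θ' hθ hθ' hc1 hc₁1
  have hset : charDegrees G = {1, L.index, c₁} := by
    ext c
    rw [Set.mem_insert_iff, Set.mem_insert_iff, Set.mem_singleton_iff]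
    constructor
    · intro hc
      by_contra! hne
      exact hne.2.2 (hone c (hasDeg_iff.2 hc) hne.1 hne.2.1)
    · rintro (rfl | rfl | rfl)
      · exact hasDeg_iff.1 ⟨Chars.linIrr 1, by simp [Chars.linIrr]⟩
      · exact hasDeg_iff.1 hfdeg
      · exact hasDeg_iff.1 hc₁
  rw [Nat.card_coe_set_eq, hset]
  exact Set.ncard_eq_three.mpr ⟨1, L.index, c₁, hind.symm, hc₁1.symm, hc₁f.symm, rfl⟩

end Cfsg.Agent.Lib.NoDivDeg
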