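import Mathlib

/-!
An abelian group `A` of automorphisms of an abelian group `V` whose orbits are all fixed by an
automorphism `γ` normalising it: `A` is semiregular, `V` is elementary abelian and the index of
`C_A(γ)` in `A` is large.
-/

set_option autoImplicit false

namespace Cfsg.Agent.Lib.NoDivDeg

theorem natCard_ne_one_subtype {V : Type*} [Group V] [Finite V] (U : Subgroup V) :
    Nat.card {v : V // v ∈ U ∧ v ≠ 1} + 1 = Nat.card U := by
  classical
  have e : Option {y : U // y ≠ 1} ≃ U := Equiv.optionSubtypeNe (1 : U)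
  have e' : {y : U // y ≠ 1} ≃ {v : V // v ∈ U ∧ v ≠ 1} :=
    { toFun := fun y => ⟨y.1, y.1.2, fun h => y.2 (Subtype.ext h)⟩
      invFun := fun v => ⟨⟨v.1, v.2.1⟩, fun h => v.2.2 (congrArg Subtype.val h)⟩
      left_inv := fun _ => rfl
      right_inv := fun _ => rfl }
  rw [← Nat.card_congr e', ← Nat.card_congr e, Finite.card_option]

/-- The counting behind irreducibility. -/
theorem eq_one_of_count {r U k a j : ℕ} (hr : 1 < r) (ha : 1 < a) (hj : 0 < j) (hk : 0 < k)
    (hjk : j ∣ k) (h1 : r * (a - 1) + 1 = U) (h2 : r * (a * j - 1) + 1 = U * k) : k = 1 := by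
  obtain ⟨t, rfl⟩ := hjk
  obtain ⟨a', rfl⟩ : ∃ a', a = a' + 1 := ⟨a - 1, by omega⟩
  obtain ⟨j', rfl⟩ : ∃ j', j = j' + 1 := ⟨j - 1, by omega⟩
  simp only [Nat.add_sub_cancel] at h1
  have e : (a' + 1) * (j' + 1) - 1 = a' * j' + a' + j' := by
    have : (a' + 1) * (j' + 1) = a' * j' + a' + j' + 1 := by ring
    omega
  rw [e] at h2
  subst h1
  rcases t with _ | _ | t
  · simp at hk
  · nlinarith
  · exfalso
    have ha' : 1 ≤ a' := by omega
    have hx : r * j' * 1 ≤ r * j' * a' := Nat.mul_le_mul_left _ ha'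
    have hy : (r * a' + 1) * ((j' + 1) * 2) ≤ (r * a' + 1) * ((j' + 1) * (t + 1 + 1)) :=
      Nat.mul_le_mul_left _ (Nat.mul_le_mul_left _ (by omega))
    nlinarith

variable {V : Type*} [CommGroup V] [Finite V] [Nontrivial V]

theorem orbit_structure (A : Subgroup (MulAut V)) (hA : ∀ a ∈ A, ∀ b ∈ A, a * b = b * a)
    (γ : MulAut V) (hγA : ∀ a ∈ A, γ * a * γ⁻¹ ∈ A) {q k : ℕ} (hq : q.Prime)
    (hγ : γ ^ q ^ k = 1) (hfix : ∀ v : V, v ≠ 1 → ∃ a ∈ A, γ v = a v)
    (hstab : ∀ v : V, v ≠ 1 → ∀ a ∈ A, a v = v → γ * a * γ⁻¹ = a)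
    (horb : ∀ v : V, v ≠ 1 → ∀ a ∈ A, (a ^ q) v = v → a v = v)
    (hmove : ∃ a ∈ A, γ * a * γ⁻¹ ≠ a) :
    (∀ v : V, v ≠ 1 → ∀ a ∈ A, a v = v → a = 1) ∧
      ∃ p : ℕ, p.Prime ∧ (∀ v : V, v ^ p = 1) ∧ (∀ a ∈ A, a ^ p = 1 → a = 1) ∧
        ∀ n : ℕ, 1 ≤ n → (Subgroup.centralizer ({γ} : Set (MulAut V))).relIndex A ∣ p ^ n - 1 →
          Nat.card V ≤ p ^ n := by
  classical
  let d : A →* A := MonoidHom.mk' (fun a => ⟨γ * a * γ⁻¹ * (a : MulAut V)⁻¹,
      A.mul_mem (hγA _ a.2) (A.inv_mem a.2)⟩) fun a b => by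
    apply Subtype.ext
    simp only [Subgroup.coe_mul]
    have hc := hA _ (A.mul_mem (hγA _ b.2) (A.inv_mem b.2)) _ (A.inv_mem a.2)
    rw [mul_inv_rev, show γ * ((a : MulAut V) * b) * γ⁻¹ * ((b : MulAut V)⁻¹ * (a : MulAut V)⁻¹) =
      γ * a * γ⁻¹ * (γ * b * γ⁻¹ * (b : MulAut V)⁻¹ * (a : MulAut V)⁻¹) by group, hc]
    group
  have hd : ∀ a : A, γ * a * γ⁻¹ = (d a : MulAut V) * a := fun a => by
    show _ = γ * a * γ⁻¹ * (a : MulAut V)⁻¹ * a
    group
  have hker : ∀ a : A, a ∈ d.ker ↔ γ * a * γ⁻¹ = a := fun a => by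
    rw [MonoidHom.mem_ker, ← Subtype.coe_inj, Subgroup.coe_one, hd, mul_eq_right]
  have hcomm : ∀ a : A, a ∈ d.ker → Commute γ (a : MulAut V) := fun a ha =>
    mul_inv_eq_iff_eq_mul.mp ((hker a).mp ha)
  have hker' : d.ker = (Subgroup.centralizer ({γ} : Set (MulAut V))).subgroupOf A := by
    ext a
    rw [hker, Subgroup.mem_subgroupOf, Subgroup.mem_centralizer_singleton_iff,
      mul_inv_eq_iff_eq_mul, eq_comm]
  -- `q` does not divide `#A`
  have hcop : (q ^ k).Coprime (Nat.card A) := by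
    refine Nat.Coprime.pow_left k (hq.coprime_iff_not_dvd.mpr fun h => ?_)
    have := Fact.mk hq
    obtain ⟨a, ha⟩ := exists_prime_orderOf_dvd_card' q h
    have h1 : (a : MulAut V) = 1 := MulEquiv.ext fun v => by
      by_cases hv : v = 1
      · simp [hv]
      rw [MulAut.one_apply]
      refine horb v hv a a.2 ?_
      rw [← SubgroupClass.coe_pow, ← ha, pow_orderOf_eq_one]
      simp
    rw [show a = 1 from Subtype.ext h1, orderOf_one] at ha
    exact hq.one_lt.ne ha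
  have hdis : ∀ y : A, y ∈ d.ker → y ∈ d.range → y = 1 := by
    rintro y hy ⟨b, rfl⟩
    have h1 : ∀ i : ℕ, γ ^ i * (b : MulAut V) * (γ ^ i)⁻¹ = (d b : MulAut V) ^ i * b := by
      intro i
      induction i with
      | zero => simp
      | succ i ih =>
        calc γ ^ (i + 1) * (b : MulAut V) * (γ ^ (i + 1))⁻¹
            = γ * (γ ^ i * b * (γ ^ i)⁻¹) * γ⁻¹ := by rw [pow_succ']; group
          _ = γ * (d b : MulAut V) ^ i * γ⁻¹ * (γ * b * γ⁻¹) := by rw [ih]; group
          _ = (d b : MulAut V) ^ i * ((d b : MulAut V) * b) := by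
            rw [hd b, ((hcomm _ hy).pow_right i).eq]; group
          _ = _ := by rw [pow_succ, mul_assoc]
    have h2 := h1 (q ^ k)
    rw [hγ, one_mul, inv_one, mul_one, right_eq_mul, ← SubgroupClass.coe_pow] at h2
    exact orderOf_eq_one_iff.mp (Nat.eq_one_of_dvd_coprimes hcop
      (orderOf_dvd_of_pow_eq_one (Subtype.ext h2)) (orderOf_dvd_natCard _))
  have hsurj : ∀ a : A, ∃ c : A, ∃ y : A, c ∈ d.ker ∧ y ∈ d.range ∧ a = c * y := by
    let f : d.ker × d.range → A := fun z => (z.1 : A) * z.2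
    have hinj : Function.Injective f := by
      rintro ⟨c, y⟩ ⟨c', y'⟩ h
      have h3 : (c' : A)⁻¹ * c = y' * (y : A)⁻¹ := by
        rw [eq_mul_inv_iff_mul_eq, mul_assoc, inv_mul_eq_iff_eq_mul]
        exact h
      have h4 := hdis _ (d.ker.mul_mem (d.ker.inv_mem c'.2) c.2)
        (h3 ▸ d.range.mul_mem y'.2 (d.range.inv_mem y.2))
      obtain rfl : c' = c := Subtype.ext (inv_mul_eq_one.mp h4)
      exact Prod.ext rfl (Subtype.ext (mul_left_cancel (a := (c' : A)) h))
    have hb : Function.Bijective f := (Nat.bijective_iff_injective_and_card f).mpr ⟨hinj, by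
      rw [Nat.card_prod, ← Subgroup.index_ker, Subgroup.card_mul_index]⟩
    intro a
    obtain ⟨⟨c, y⟩, rfl⟩ := hb.2 a
    exact ⟨c, y, c.2, y.2, rfl⟩
  -- every orbit contains a fixed point of `γ`
  have hrep : ∀ v : V, v ≠ 1 → ∃ y : A, y ∈ d.range ∧
      ∃ w : V, γ w = w ∧ w ≠ 1 ∧ (y : MulAut V) w = v := by
    intro v hv
    obtain ⟨a, ha, hav⟩ := hfix v hv
    obtain ⟨c, _, hc, ⟨b₀, rfl⟩, hca⟩ := hsurj ⟨a, ha⟩
    set b : A := b₀⁻¹ with hb
    have hw1 : γ ((b : MulAut V) v) = (c : MulAut V) ((b : MulAut V) v) := by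
      have e : γ * (b : MulAut V) = (d b : MulAut V) * b * γ := by rw [← hd]; group
      have e2 : γ ((b : MulAut V) v) = ((d b * b * ⟨a, ha⟩ : A) : MulAut V) v := by
        rw [← MulAut.mul_apply, e, MulAut.mul_apply, hav]; rfl
      rw [e2, hca, show d b * b * (c * d b₀) = c * b by
        rw [hb, map_inv]
        have hAc : ∀ u w : A, u * w = w * u := fun u w => Subtype.ext (hA _ u.2 _ w.2)
        rw [hAc (d b₀)⁻¹ b₀⁻¹, mul_assoc, hAc c (d b₀), inv_mul_cancel_left, hAc]]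
      rfl
    set w := (b : MulAut V) v with hw
    have hw0 : w ≠ 1 := fun h => hv ((b : MulAut V).injective (h.trans (map_one _).symm))
    have hpow : ∀ i : ℕ, (γ ^ i) w = ((c : MulAut V) ^ i) w := by
      intro i
      induction i with
      | zero => rfl
      | succ i ih =>
        rw [pow_succ', MulAut.mul_apply, ih, ← MulAut.mul_apply,
          ((hcomm c hc).pow_right i).eq, MulAut.mul_apply, hw1, ← MulAut.mul_apply, ← pow_succ]
    have hcw : (c : MulAut V) w = w := by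
      have h1 : ((c : MulAut V) ^ q ^ k) w = w := by rw [← hpow, hγ, MulAut.one_apply]
      have h2 : ∀ j : ℕ, ((c : MulAut V) ^ q ^ j) w = w → (c : MulAut V) w = w := by
        intro j
        induction j with
        | zero => simp
        | succ j ih =>
          intro h
          refine ih (horb w hw0 _ (A.pow_mem c.2 _) ?_)
          rwa [← pow_mul, ← pow_succ]
      exact h2 k h1
    rw [hcw] at hw1
    obtain ⟨c', y, hc', hy, hcy⟩ := hsurj b⁻¹
    refine ⟨y, hy, (c' : MulAut V) w, ?_, fun h => hw0 ((c' : MulAut V).injective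
      (h.trans (map_one _).symm)), ?_⟩
    · rw [← MulAut.mul_apply, (hcomm c' hc').eq, MulAut.mul_apply, hw1]
    · rw [hw, ← MulAut.mul_apply, ← MulAut.mul_apply, ← Subgroup.coe_mul,
        show y * c' = b⁻¹ by rw [hcy]; exact Subtype.ext (hA _ y.2 _ c'.2),
        Subgroup.coe_inv, inv_mul_cancel, MulAut.one_apply]
  have huniq : ∀ y y' : A, y ∈ d.range → y' ∈ d.range → ∀ w w' : V, γ w = w → γ w' = w' →
      w ≠ 1 → (y : MulAut V) w = (y' : MulAut V) w' → y = y' ∧ w = w' := by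
    intro y y' hy hy' w w' hw hw' hw0 h
    set e : A := y'⁻¹ * y with he
    have h1 : (e : MulAut V) w = w' := by
      rw [he, Subgroup.coe_mul, Subgroup.coe_inv, MulAut.mul_apply, h, ← MulAut.mul_apply,
        inv_mul_cancel, MulAut.one_apply]
    have h2 : (d e : MulAut V) w' = w' := by
      have h3 : γ ((e : MulAut V) w) = w' := by rw [h1, hw']
      rw [← MulAut.mul_apply, show γ * (e : MulAut V) = (d e : MulAut V) * e * γ by
        rw [← hd]; group, MulAut.mul_apply, hw, MulAut.mul_apply, h1] at h3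
      exact h3
    have hw'0 : w' ≠ 1 := h1 ▸ fun h => hw0 ((e : MulAut V).injective (h.trans (map_one _).symm))
    have h4 : d e = 1 := hdis _ ((hker _).mpr (hstab w' hw'0 _ (d e).2 h2)) ⟨e, rfl⟩
    have h5 : e = 1 := hdis e h4 (d.range.mul_mem (d.range.inv_mem hy') hy)
    rw [h5] at h1
    exact ⟨(inv_mul_eq_one.mp h5).symm, h1⟩
  let W : Subgroup V := MonoidHom.eqLocus γ.toMonoidHom (MonoidHom.id V)
  set r := Nat.card d.range with hr
  have hr1 : 1 < r := by
    obtain ⟨a, ha, hne⟩ := hmove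
    have : Nontrivial d.range := ⟨⟨⟨_, ⟨⟨a, ha⟩, rfl⟩⟩, 1,
      fun h => hne ((hker ⟨a, ha⟩).mp (congrArg Subtype.val h))⟩⟩
    exact Finite.one_lt_card
  -- the count inside an invariant subgroup
  have hcount : ∀ U : Subgroup V, (∀ a ∈ A, ∀ v ∈ U, a v ∈ U) →
      r * (Nat.card (U ⊓ W : Subgroup V) - 1) + 1 = Nat.card U := by
    intro U hU
    rw [← natCard_ne_one_subtype U, ← natCard_ne_one_subtype (U ⊓ W), Nat.add_sub_cancel, hr,
      ← Nat.card_prod]
    congr 1
    refine Nat.card_eq_of_bijective (fun z => ⟨((z.1 : A) : MulAut V) z.2.1,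
      hU _ (z.1 : A).2 _ (Subgroup.mem_inf.mp z.2.2.1).1,
      fun h => z.2.2.2 (((z.1 : A) : MulAut V).injective (h.trans (map_one _).symm))⟩) ⟨?_, ?_⟩
    · rintro ⟨⟨y, hy⟩, ⟨w, hw, hw0⟩⟩ ⟨⟨y', hy'⟩, ⟨w', hw', hw0'⟩⟩ h
      obtain ⟨rfl, rfl⟩ := huniq y y' hy hy' w w' (Subgroup.mem_inf.mp hw).2
        (Subgroup.mem_inf.mp hw').2 hw0 (congrArg Subtype.val h)
      rfl
    · rintro ⟨v, hv, hv0⟩
      obtain ⟨y, hy, w, hw, hw0, hyw⟩ := hrep v hv0
      refine ⟨⟨⟨y, hy⟩, ⟨w, Subgroup.mem_inf.mpr ⟨?_, hw⟩, hw0⟩⟩, Subtype.ext hyw⟩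
      rw [← (MulEquiv.symm_apply_apply (y : MulAut V) w), hyw]
      exact hU _ (A.inv_mem y.2) v hv
  have hW := hcount ⊤ (fun _ _ _ _ => trivial)
  rw [top_inf_eq, Subgroup.card_top] at hW
  -- invariant subgroups are trivial
  have hirr : ∀ U : Subgroup V, (∀ a ∈ A, ∀ v ∈ U, a v ∈ U) → U ≠ ⊥ → U = ⊤ := by
    intro U hU hne
    have h1 := hcount U hU
    have hU1 : 1 < Nat.card U := U.one_lt_card_iff_ne_bot.mpr hne
    have ha : 1 < Nat.card (U ⊓ W : Subgroup V) := by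
      by_contra hle
      rw [show Nat.card (U ⊓ W : Subgroup V) - 1 = 0 by omega, mul_zero] at h1
      omega
    have hsplit : Nat.card W = Nat.card (U ⊓ W : Subgroup V) * U.relIndex W := by
      rw [← Subgroup.relIndex_bot_left, ← Subgroup.relIndex_bot_left, ← Subgroup.inf_relIndex_right U,
        Subgroup.relIndex_mul_relIndex _ _ _ bot_le inf_le_right]
    rw [hsplit, ← U.card_mul_index] at hW
    exact Subgroup.index_eq_one.mp (eq_one_of_count hr1 ha
      (Nat.pos_of_ne_zero ((Subgroup.relIndex_dvd_card U W).trans dvd_rfl |> ne_zero_of_dvd_ne_zero Nat.card_pos.ne'))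
      (Nat.pos_of_ne_zero Subgroup.index_ne_zero_of_finite)
      (Subgroup.relIndex_dvd_index_of_normal U W) h1 hW)
  have hsemi : ∀ v : V, v ≠ 1 → ∀ a ∈ A, a v = v → a = 1 := by
    intro v hv a ha hav
    have htop := hirr (MonoidHom.eqLocus a.toMonoidHom (MonoidHom.id V))
      (fun b hb w hw => by
        show a (b w) = b w
        have hw' : a w = w := hw
        rw [← MulAut.mul_apply, hA a ha b hb, MulAut.mul_apply, hw'])
      (fun h => hv (Subgroup.mem_bot.mp (h ▸ (show v ∈ MonoidHom.eqLocus a.toMonoidHom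
        (MonoidHom.id V) from hav))))
    refine MulEquiv.ext fun w => ?_
    exact (htop ▸ Subgroup.mem_top w : w ∈ MonoidHom.eqLocus a.toMonoidHom (MonoidHom.id V))
  refine ⟨hsemi, ?_⟩
  obtain ⟨p, hp, hpV⟩ := Nat.exists_prime_and_dvd (n := Nat.card V) Finite.one_lt_card.ne'
  have := Fact.mk hp
  obtain ⟨v₀, hv₀⟩ := exists_prime_orderOf_dvd_card' p hpV
  have hv₀0 : v₀ ≠ 1 := fun h => hp.one_lt.ne (by rw [← hv₀, h, orderOf_one])
  have hexp : ∀ v : V, v ^ p = 1 := by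
    have htop := hirr (powMonoidHom p).ker
      (fun a _ v hv => by
        rw [MonoidHom.mem_ker, powMonoidHom_apply] at hv ⊢
        rw [← map_pow, hv, map_one])
      (fun h => hv₀0 (Subgroup.mem_bot.mp (h ▸
        (MonoidHom.mem_ker.mpr (hv₀ ▸ pow_orderOf_eq_one v₀) : v₀ ∈ (powMonoidHom p).ker))))
    exact fun v => (htop ▸ Subgroup.mem_top v : v ∈ (powMonoidHom p).ker)
  have hVp : IsPGroup p V := fun v => ⟨1, by rw [pow_one, hexp]⟩
  refine ⟨p, hp, hexp, fun a ha hap => ?_, fun n₁ hn₁ hdvd => ?_⟩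
  · by_contra hne
    have hP : IsPGroup p (Subgroup.zpowers a) := IsPGroup.of_card (n := 1)
      (by rw [Nat.card_zpowers, orderOf_eq_prime hap hne, pow_one])
    let _ : MulAction (Subgroup.zpowers a) V :=
      MulAction.compHom V (Subgroup.zpowers a).subtype
    obtain ⟨b, hb, hb1⟩ := hP.exists_fixed_point_of_prime_dvd_card_of_fixed_point V hpV
      (a := 1) (fun g => map_one (g : MulAut V))
    exact hne (hsemi b (Ne.symm hb1) a ha (hb ⟨a, Subgroup.mem_zpowers a⟩))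
  · have hrel : (Subgroup.centralizer ({γ} : Set (MulAut V))).relIndex A = r := by
      rw [Subgroup.relIndex, ← hker', Subgroup.index_ker]
    rw [hrel] at hdvd
    obtain ⟨n, hn⟩ := IsPGroup.iff_card.mp hVp
    obtain ⟨m, hm⟩ := IsPGroup.iff_card.mp (hVp.to_subgroup W)
    rw [hn, hm] at hW
    rw [hn]
    refine Nat.pow_le_pow_right hp.pos (Nat.not_lt.mp fun hlt => ?_)
    have hp2 := hp.two_le
    have hPn : 1 < p ^ n := hn ▸ Finite.one_lt_card
    have hm1 : 1 < p ^ m := by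
      by_contra hle
      rw [show p ^ m - 1 = 0 by omega, mul_zero] at hW
      omega
    have hmul : r * (p ^ m - 1) = p ^ n - 1 := by omega
    have hgm : n.gcd m = m := by
      have h := Nat.pow_sub_one_gcd_pow_sub_one p n m
      rw [Nat.gcd_eq_right ⟨r, by rw [← hmul, mul_comm]⟩] at h
      have h' : p ^ m = p ^ n.gcd m := by
        have := Nat.one_le_pow (n.gcd m) p hp.pos
        omega
      exact (Nat.pow_right_injective hp2 h').symm
    have hdg : r ∣ p ^ n.gcd n₁ - 1 := by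
      rw [← Nat.pow_sub_one_gcd_pow_sub_one]
      exact Nat.dvd_gcd ⟨_, hmul.symm⟩ hdvd
    have hhalf : ∀ {x : ℕ}, x ∣ n → x < n → x + x ≤ n := by
      rintro x ⟨t, rfl⟩ hx
      rcases t with _ | _ | t <;> [simp at hx; simp at hx; nlinarith]
    have hmn : m < n := by
      by_contra hle
      have := Nat.pow_le_pow_right hp.pos (Nat.not_lt.mp hle)
      have : 2 * (p ^ m - 1) ≤ r * (p ^ m - 1) := Nat.mul_le_mul_right _ hr1
      omega
    set e := n.gcd n₁
    have hm2 := hhalf (hgm ▸ Nat.gcd_dvd_left n m) hmn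
    have he2 := hhalf (Nat.gcd_dvd_left n n₁)
      ((Nat.le_of_dvd (by omega) (Nat.gcd_dvd_right n n₁)).trans_lt hlt)
    have hepos : 0 < p ^ e - 1 := by
      have : 1 < p ^ e := Nat.one_lt_pow (Nat.gcd_pos_of_pos_right n (by omega)).ne' hp.one_lt
      omega
    have hre : r ≤ p ^ e - 1 := Nat.le_of_dvd hepos hdg
    have hbig : p ^ e * p ^ m ≤ p ^ n := by
      rw [← pow_add]; exact Nat.pow_le_pow_right hp.pos (by omega)
    have h3 := Nat.mul_le_mul_right (p ^ m - 1) hre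
    have h4 : (p ^ e - 1) * (p ^ m - 1) + (p ^ m - 1) + (p ^ e - 1) + 1 = p ^ e * p ^ m := by
      obtain ⟨x, hx⟩ : ∃ x, p ^ e = x + 1 := ⟨_, (Nat.succ_pred_eq_of_pos (by positivity)).symm⟩
      obtain ⟨y, hy⟩ : ∃ y, p ^ m = y + 1 := ⟨_, (Nat.succ_pred_eq_of_pos (by positivity)).symm⟩
      rw [hx, hy]; simp only [Nat.add_sub_cancel]; ring
    omega

end Cfsg.Agent.Lib.NoDivDeg
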