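import Cfsg.Agent.Lib.NoDivDeg.Fixed

/-!
The derived group is abelian.
-/

set_option autoImplicit false

namespace Cfsg.Agent.Lib.NoDivDeg

open Cfsg
open Cfsg.Agent.Lib
open scoped commutatorElement

variable {L : Type*} [Group L] [Fintype L]

/-- The twists fixing a function on the derived group. -/
def twistFix (φ : commutator L → ℂ) : Subgroup (Dual L) where
  carrier := {ν | ∀ d, (ν d : ℂ) * φ d = φ d}
  one_mem' := fun d => by simp
  mul_mem' := fun {a b} ha hb d => by
    rw [MonoidHom.mul_apply, Units.val_mul, mul_assoc, hb d, ha d]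
  inv_mem' := fun {a} ha d => by
    conv_lhs => rw [← ha d, MonoidHom.inv_apply, ← mul_assoc, ← Units.val_mul, inv_mul_cancel,
      Units.val_one, one_mul]

theorem conjFun_twist (l : L) (ν : Dual L) (φ : commutator L → ℂ) (d : commutator L) :
    Clifford.conjFun l (fun z => (ν z : ℂ) * φ z) d =
      ((rho L l⁻¹ ν) d : ℂ) * Clifford.conjFun l φ d :=
  congrArg (fun t : ℂ => t * Clifford.conjFun l φ d) (congrFun (conjFun_dfun l ν) d)

namespace Hyp

variable {τ : MulAut L} {q k s : ℕ} {x u w : L}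

/-- A non-linear character of the derived `p`-group vanishes off its derived group. -/
theorem apply_eq_zero (h : Hyp L τ q k s x u w) {p : ℕ} (hp : p.Prime)
    (hP : IsPGroup p (commutator L)) (hidx : ¬ p ∣ (rho L).ker.index)
    (hker : ∀ ν : Dual L, ν ≠ 1 → ∀ l, rho L l ν = ν → rho L l = 1)
    (hdeg : ∃ θ : IrrCharacter L, (θ : L → ℂ) 1 = ((rho L).ker.index : ℂ))
    (hm : (rho L).ker.index ≠ 1) (φ : IrrCharacter (commutator L))
    (hφ1 : (φ : commutator L → ℂ) 1 ≠ 1) (z : commutator L) (hz : z ∉ commutator (commutator L)) :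
    (φ : commutator L → ℂ) z = 0 := by
  classical
  have := Fintype.ofFinite (commutator L)
  have := Fact.mk hp
  -- every non-linear character is fixed by an element acting non-trivially
  have hex : ∀ ψ : IrrCharacter (commutator L), (ψ : commutator L → ℂ) 1 ≠ 1 →
      ∃ l, Clifford.conjFun l (ψ : commutator L → ℂ) = ψ ∧ rho L l ≠ 1 := by
    intro ψ hψ1
    by_contra! hall
    obtain ⟨d, hd0, hd, hdvd⟩ := Chars.irr_degree_dvd_card ψ
    obtain ⟨a, ha⟩ := IsPGroup.iff_card.mp hP
    obtain ⟨i, -, hi⟩ := (Nat.dvd_prime_pow hp).mp (ha ▸ hdvd)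
    have hpd : p ∣ d := by
      rcases i with _ | i
      · exact absurd (by rw [hd, hi, pow_zero, Nat.cast_one]) hψ1
      · exact hi ▸ dvd_pow_self p (Nat.succ_ne_zero i)
    obtain ⟨θ, hθ⟩ := ThreeDegrees.exists_over (commutator L) ψ
    obtain ⟨c, hc0, hc⟩ := Chars.isIrrCharacter_exists_degree_pos θ.2
    obtain ⟨e, he⟩ := Chars.isCharacter_classInner_nat
      (Chars.isCharacter_restrict (commutator L) (Chars.irr_isCharacter θ)) (Chars.irr_isCharacter ψ)
    have h1 := Clifford.apply_one_eq θ.2 ψ.2 hθ (stabFun (commutator L) (ψ : commutator L → ℂ))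
      (fun g => Iff.rfl)
    rw [hc, show classInner (Clifford.resFun (commutator L) (θ : L → ℂ)) (ψ : commutator L → ℂ) =
      (e : ℂ) from he, hd] at h1
    have h2 : c = e * ((stabFun (commutator L) (ψ : commutator L → ℂ)).index * d) := by
      exact_mod_cast h1
    have hle : stabFun (commutator L) (ψ : commutator L → ℂ) ≤ (rho L).ker := fun l hl =>
      hall l hl
    have hdvd2 : (rho L).ker.index ∣ c :=
      h2 ▸ dvd_mul_of_dvd_right (dvd_mul_of_dvd_left (Subgroup.index_dvd_of_le hle) d) e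
    obtain ⟨θ₀, hθ₀⟩ := hdeg
    have h3 := h.hanti θ₀ θ _ c hθ₀ hc (by
      have := Subgroup.index_ne_zero_of_finite (H := (rho L).ker)
      omega) hdvd2
    exact hidx (h3 ▸ h2 ▸ dvd_mul_of_dvd_right (dvd_mul_of_dvd_right hpd _) e)
  -- the twists fixing `φ`
  set S := twistFix (φ : commutator L → ℂ) with hSdef
  have hSinv : ∀ l, Clifford.conjFun l (φ : commutator L → ℂ) = φ → ∀ ν ∈ S, rho L l⁻¹ ν ∈ S := by
    intro l hl ν hν d
    have h1 : (fun z => (ν z : ℂ) * (φ : commutator L → ℂ) z) = (φ : commutator L → ℂ) := funext hν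
    have h2 := conjFun_twist l ν (φ : commutator L → ℂ) d
    rw [h1, hl] at h2
    exact h2.symm
  have hdelta : ∀ l, Clifford.conjFun l (φ : commutator L → ℂ) = φ → rho L l ≠ 1 →
      ∀ ν : Dual L, rho L l⁻¹ ν * ν⁻¹ ∈ S → ν ∈ S := by
    intro l hl hl1 ν hν
    let f : Dual L → Dual L := fun ν => rho L l⁻¹ ν * ν⁻¹
    have hinj : Function.Injective f := by
      intro a b hab
      have hab : rho L l⁻¹ a * a⁻¹ = rho L l⁻¹ b * b⁻¹ := hab
      by_contra hne
      refine hl1 (inv_eq_one.mp ((map_inv (rho L) l).symm.trans (hker (a * b⁻¹)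
        (fun e => hne (mul_inv_eq_one.mp e)) l⁻¹ ?_)))
      refine MonoidHom.ext fun z => ?_
      have h1 := DFunLike.congr_fun hab z
      rw [MonoidHom.mul_apply, MonoidHom.inv_apply, MonoidHom.mul_apply, MonoidHom.inv_apply,
        ← div_eq_mul_inv, ← div_eq_mul_inv, div_eq_div_iff_mul_eq_mul] at h1
      show rho L l⁻¹ a z * (rho L l⁻¹ b z)⁻¹ = a z * (b z)⁻¹
      rw [← div_eq_mul_inv, ← div_eq_mul_inv, div_eq_div_iff_mul_eq_mul, h1, mul_comm]
    let g : S → S := fun σ => ⟨f σ, S.mul_mem (hSinv l hl σ σ.2) (S.inv_mem σ.2)⟩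
    obtain ⟨σ, hσ⟩ := Finite.surjective_of_injective
      (f := g) (fun a b hab => Subtype.ext (hinj (congrArg Subtype.val hab))) ⟨f ν, hν⟩
    exact hinj (congrArg Subtype.val hσ) ▸ σ.2
  have hStop : ∀ ν : Dual L, ν ∈ S := by
    intro ν
    obtain ⟨c, hc, hc1⟩ := hex φ hφ1
    have hψ : IsIrrCharacter (commutator L) (fun d => (ν d : ℂ) * (φ : commutator L → ℂ) d) :=
      Chars.isIrrCharacter_hom_mul ν φ.2
    obtain ⟨y, hy, hy1⟩ := hex ⟨_, hψ⟩ (by simpa using hφ1)
    set νy : Dual L := rho L y⁻¹ ν with hνy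
    -- `φ` conjugated by `y` is a twist of `φ`
    have hφy : ∀ d, Clifford.conjFun y (φ : commutator L → ℂ) d =
        ((ν * νy⁻¹ : Dual L) d : ℂ) * (φ : commutator L → ℂ) d := by
      intro d
      have h1 : ((νy d : ℂˣ) : ℂ) * Clifford.conjFun y (φ : commutator L → ℂ) d =
          (ν d : ℂ) * (φ : commutator L → ℂ) d :=
        (conjFun_twist y ν (φ : commutator L → ℂ) d).symm.trans (congrFun hy d)
      rw [MonoidHom.mul_apply, MonoidHom.inv_apply, Units.val_mul, Units.val_inv_eq_inv_val,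
        mul_comm (ν d : ℂ), mul_assoc, ← h1, inv_mul_cancel_left₀ (Units.ne_zero _)]
    have hfixed : Clifford.conjFun c (Clifford.conjFun y (φ : commutator L → ℂ)) =
        Clifford.conjFun y (φ : commutator L → ℂ) := by
      rw [← Clifford.conjFun_mul, show y * c = ⁅y, c⁆ * (c * y) by
          rw [commutatorElement_def]; group,
        Clifford.conjFun_mul, le_stabFun φ (Subgroup.commutator_mem_commutator (Subgroup.mem_top y)
          (Subgroup.mem_top c)), Clifford.conjFun_mul, hc]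
    have hν' : ν * νy⁻¹ ∈ S := hdelta c hc hc1 _ fun d => by
      have h1 := congrFun hfixed d
      rw [funext hφy, conjFun_twist, hc] at h1
      rw [MonoidHom.mul_apply, MonoidHom.inv_apply, Units.val_mul, Units.val_inv_eq_inv_val,
        mul_comm (((rho L c⁻¹) (ν * νy⁻¹)) d : ℂ), mul_assoc, h1,
        inv_mul_cancel_left₀ (Units.ne_zero _)]
    have hfy : Clifford.conjFun y (φ : commutator L → ℂ) = φ :=
      funext fun d => (hφy d).trans (hν' d)
    refine hdelta y hfy hy1 ν fun d => ?_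
    have h1 := hν' d
    rw [MonoidHom.mul_apply, MonoidHom.inv_apply, Units.val_mul] at h1 ⊢
    conv_lhs => rw [← h1]
    have e : ((νy d : ℂˣ) : ℂ) * (((ν d)⁻¹ : ℂˣ) : ℂ) * (((ν d : ℂˣ) : ℂ) * (((νy d)⁻¹ : ℂˣ) : ℂ)) = 1 := by
      rw [← Units.val_mul, ← Units.val_mul, ← Units.val_mul, ← Units.val_one]
      congr 1
      group
    rw [← mul_assoc, e, one_mul]
  by_contra h0
  refine hz (mem_commutator_of_forall_hom fun ν => Units.ext ?_)
  rw [Units.val_one]
  exact (mul_eq_right₀ h0).mp (hStop ν z)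

end Hyp

end Cfsg.Agent.Lib.NoDivDeg
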