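import Mathlib
import Cfsg.Agent.Lib.TIFixed
import Cfsg.Agent.Lib.Chars.Induced
import Cfsg.Agent.Lib.Chars.Ops

/-!
Non-vanishing of character values used in the no-divisibility theorem.
-/

set_option autoImplicit false

namespace Cfsg.Agent.Lib.NoDivDeg

open Cfsg
open Cfsg.Agent.Lib

variable {G : Type*} [Group G]

/-- A character of degree prime to `l` does not vanish on an element of `l`-power order. -/
theorem apply_ne_zero_of_primePow [Finite G] (χ : IrrCharacter G) {d : ℕ}
    (hd : (χ : G → ℂ) 1 = d) {l j : ℕ} (hl : l.Prime) {y : G} (hy : orderOf y = l ^ j)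
    (hld : ¬ l ∣ d) : (χ : G → ℂ) y ≠ 0 := by
  obtain ⟨n, ρ, hρ⟩ := Chars.irr_exists_rep χ
  obtain ⟨-, hρ⟩ : ρ.IsIrreducible ∧ ρ.character = (χ : G → ℂ) := hρ
  obtain ⟨ι, _, μ, hcard, hμ, hsum, -⟩ := Chars.exists_roots_sum ρ y
  have hnd : Fintype.card ι = d := by
    have h1 := congrFun hρ 1
    rw [Representation.char_one, hd, ← hcard] at h1
    exact_mod_cast h1
  obtain ⟨A, hlA⟩ := TIFixed.exists_valuationSubring l hl
  have hmem : ∀ i, μ i ∈ A := fun i => by
    rw [← A.valuation_le_one_iff]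
    have h : A.valuation (μ i) ^ orderOf y = 1 := by rw [← map_pow, hμ, map_one]
    exact ((pow_eq_one_iff_left (orderOf_pos y).ne').mp h).le
  let k := IsLocalRing.ResidueField A
  let π : A →+* k := IsLocalRing.residue A
  have : CharP k l := (CharP.charP_iff_prime_eq_zero hl).mpr (by
    rw [← map_natCast π, IsLocalRing.residue_eq_zero_iff]
    exact A.coe_mem_nonunits_iff.mp (by simpa using hlA))
  have := Fact.mk hl
  have hπ : ∀ i, π ⟨μ i, hmem i⟩ = 1 := fun i => by
    have h1 : (⟨μ i, hmem i⟩ : A) ^ l ^ j = 1 := Subtype.ext (by simpa [← hy] using hμ i)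
    have h2 := congrArg π h1
    rw [map_pow, map_one] at h2
    exact ((iterateFrobenius_inj k l j) (by simpa [iterateFrobenius_def] using h2))
  intro h0
  have hz : (∑ i, (⟨μ i, hmem i⟩ : A)) = 0 := by
    apply Subtype.ext
    push_cast
    rw [← hsum, congrFun hρ y, h0]
  have h2 := congrArg π hz
  rw [map_sum, map_zero, Finset.sum_congr rfl (fun i _ => hπ i), Finset.sum_const,
    Finset.card_univ, hnd, nsmul_eq_mul, mul_one] at h2
  exact hld ((CharP.cast_eq_zero_iff k l d).mp h2)

/-- An induced function at an element all of whose conjugates give the same value. -/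
theorem indFun_eq_index_mul [Fintype G] (N : Subgroup G) (θ : N → ℂ) {y : G} {c : ℂ}
    (hmem : ∀ g : G, g⁻¹ * y * g ∈ N) (hval : ∀ g : G, θ ⟨g⁻¹ * y * g, hmem g⟩ = c) :
    indFun N θ y = (N.index : ℂ) * c := by
  simp only [indFun]
  rw [Finset.sum_congr rfl (fun g _ => (Chars.extendByZero_of_mem θ (hmem g)).trans (hval g)),
    Finset.sum_const, Finset.card_univ, nsmul_eq_mul, Fintype.card_eq_nat_card,
    ← N.card_mul_index, Nat.cast_mul, ← mul_assoc, ← mul_assoc,
    inv_mul_cancel₀ (Nat.cast_ne_zero.mpr Nat.card_pos.ne'), one_mul]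

/-- A character which does not vanish at `y` has a constituent which does not vanish there. -/
theorem exists_constituent_apply_ne_zero [Fintype G] {F : G → ℂ} (hF : IsCharacter G F) {y : G}
    (hy : F y ≠ 0) : ∃ θ : IrrCharacter G, classInner F (θ : G → ℂ) ≠ 0 ∧ (θ : G → ℂ) y ≠ 0 := by
  by_contra! h
  refine hy ?_
  rw [congrFun (Chars.isCharacter_eq_sum_classInner hF) y, Finset.sum_apply]
  refine Finset.sum_eq_zero fun θ _ => ?_
  rw [Pi.smul_apply, smul_eq_mul]
  by_cases h0 : classInner F (θ : G → ℂ) = 0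
  · rw [h0, zero_mul]
  · rw [h θ h0, mul_zero]

end Cfsg.Agent.Lib.NoDivDeg
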