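import Mathlib
import Cfsg.Agent.Lib.NoDivDeg.Values
import Cfsg.Agent.Lib.NoDivDeg.Orbit
import Cfsg.Agent.Lib.Clifford.Restriction
import Cfsg.Agent.Lib.Clifford.Correspondence
import Cfsg.Agent.Lib.ThreeDegrees.Basic

/-!
A solvable group whose non-linear irreducible characters are fixed by an automorphism moving an
element of prime order outside the derived group: complement and the dual of the derived group.
-/

set_option autoImplicit false

namespace Cfsg.Agent.Lib.NoDivDeg

open Cfsg
open Cfsg.Agent.Lib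
open scoped commutatorElement

/-- An element killed by all homomorphisms to `ℂˣ` lies in the derived group. -/
theorem mem_commutator_of_forall_hom {G : Type*} [Group G] [Finite G] {z : G}
    (h : ∀ κ : G →* ℂˣ, κ z = 1) : z ∈ commutator G := by
  by_contra hz
  obtain ⟨f, hf⟩ := CommGroup.exists_apply_ne_one_of_hasEnoughRootsOfUnity (Abelianization G) ℂ
    (a := Abelianization.of z) (fun e => hz ((QuotientGroup.eq_one_iff z).mp e))
  exact hf (h (f.comp Abelianization.of))

theorem hom_apply_eq_one {G A : Type*} [Group G] [CommGroup A] (f : G →* A) {d : G}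
    (hd : d ∈ commutator G) : f d = 1 :=
  Abelianization.commutator_subset_ker f hd

theorem map_mem_commutator {G H : Type*} [Group G] [Group H] (f : G →* H) {d : G}
    (hd : d ∈ commutator G) : f d ∈ commutator H := by
  have h := Subgroup.mem_map_of_mem f hd
  rw [commutator_def, Subgroup.map_commutator] at h
  exact Subgroup.commutator_mono le_top le_top h

theorem linear_apply_commutator {G : Type*} [Group G] [Finite G] (θ : IrrCharacter G)
    (h : (θ : G → ℂ) 1 = 1) {d : G} (hd : d ∈ commutator G) : (θ : G → ℂ) d = 1 := by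
  obtain ⟨f, hf⟩ := Chars.exists_hom_of_degree_one (Chars.irr_isCharacter θ) h
  rw [congrFun hf d, hom_apply_eq_one f hd, Units.val_one]

variable {L : Type*} [Group L]

/-- The linear characters of the derived group. -/
abbrev Dual (L : Type*) [Group L] := (commutator L) →* ℂˣ

/-- Restriction of an endomorphism to the derived group. -/
def resD (f : L →* L) : commutator L →* commutator L :=
  (f.comp (commutator L).subtype).codRestrict (commutator L) fun d => map_mem_commutator f d.2

/-- Automorphisms act on the linear characters of the derived group. -/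
def dualHom (L : Type*) [Group L] : MulAut L →* MulAut (Dual L) :=
  MonoidHom.mk' (fun σ =>
    { toFun := fun ν => ν.comp (resD σ.symm.toMonoidHom)
      invFun := fun ν => ν.comp (resD σ.toMonoidHom)
      left_inv := fun ν => MonoidHom.ext fun d => congrArg ν (Subtype.ext (σ.symm_apply_apply d.1))
      right_inv := fun ν => MonoidHom.ext fun d => congrArg ν (Subtype.ext (σ.apply_symm_apply d.1))
      map_mul' := fun _ _ => rfl })
    fun _ _ => MulEquiv.ext fun _ => MonoidHom.ext fun _ => rfl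

/-- The action of `L` on the linear characters of its derived group. -/
def rho (L : Type*) [Group L] : L →* MulAut (Dual L) := (dualHom L).comp MulAut.conj

theorem rho_apply (l : L) (ν : Dual L) (d : commutator L) :
    rho L l ν d = ν ⟨l⁻¹ * d * l, by
      simpa using (inferInstance : (commutator L).Normal).conj_mem _ d.2 l⁻¹⟩ :=
  rfl

theorem rho_eq_one_of_mem {d : L} (hd : d ∈ commutator L) : rho L d = 1 :=
  MulEquiv.ext fun ν => MonoidHom.ext fun e => by
    rw [rho_apply, MulAut.one_apply]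
    have : (⟨d⁻¹ * e * d, _⟩ : commutator L) = (⟨d, hd⟩ : commutator L)⁻¹ * e * ⟨d, hd⟩ :=
      Subtype.ext rfl
    rw [this, map_mul, map_mul, map_inv, mul_comm, mul_inv_cancel_left]

theorem dualHom_conj (τ : MulAut L) (l : L) :
    dualHom L τ * rho L l * (dualHom L τ)⁻¹ = rho L (τ l) := by
  rw [rho, MonoidHom.comp_apply, MonoidHom.comp_apply, ← map_inv, ← map_mul, ← map_mul]
  congr 1
  ext z
  simp [MulAut.conj_apply]

/-- A linear character of the derived group as a function. -/
def dfun (ν : Dual L) : commutator L → ℂ := fun d => (ν d : ℂ)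

theorem dfun_injective : Function.Injective (dfun (L := L)) := fun _ _ h =>
  MonoidHom.ext fun d => Units.ext (congrFun h d)

theorem conjFun_dfun (l : L) (ν : Dual L) :
    Clifford.conjFun l (dfun ν) = dfun (rho L l⁻¹ ν) :=
  funext fun d => congrArg (fun e : commutator L => ((ν e : ℂˣ) : ℂ))
    (Subtype.ext (by simp [resD, MulAut.conj_apply]; try rfl))

theorem isIrr_dfun [Finite L] (ν : Dual L) : IsIrrCharacter (commutator L) (dfun ν) :=
  Chars.isIrrCharacter_of_hom ν

/-- The hypotheses: all non-linear irreducible characters of `L` are fixed by `τ`. -/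
structure Hyp (L : Type*) [Group L] [Fintype L] (τ : MulAut L) (q k s : ℕ) (x u w : L) : Prop where
  hq : q.Prime
  hτ : τ ^ q ^ k = 1
  hinv : ∀ θ : IrrCharacter L, (θ : L → ℂ) 1 ≠ 1 → ∀ l, (θ : L → ℂ) (τ l) = (θ : L → ℂ) l
  hdeg : ∀ (θ : IrrCharacter L) (c : ℕ), (θ : L → ℂ) 1 = c → c ≠ 1 → ¬ q ∣ c
  hanti : ∀ (θ θ' : IrrCharacter L) (c c' : ℕ), (θ : L → ℂ) 1 = c → (θ' : L → ℂ) 1 = c' →
    1 < c → c ∣ c' → c = c'
  hs : s.Prime
  hxs : orderOf x = s
  hsD : ¬ s ∣ Nat.card (commutator L)
  hxu : x = τ u * u⁻¹ * w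
  hw : ¬ s ∣ orderOf w
  hxτ : τ x * x⁻¹ ∉ commutator L

namespace Hyp

variable [Fintype L] {τ : MulAut L} {q k s : ℕ} {x u w : L}

/-- Where a non-linear character does not vanish, `τ` acts trivially modulo the derived group. -/
theorem vanish (h : Hyp L τ q k s x u w) (θ : IrrCharacter L) (hθ : (θ : L → ℂ) 1 ≠ 1) {y : L}
    (hy : (θ : L → ℂ) y ≠ 0) : τ y * y⁻¹ ∈ commutator L := by
  refine mem_commutator_of_forall_hom fun κ => ?_
  have h1 := h.hinv ⟨_, Chars.isIrrCharacter_hom_mul κ θ.2⟩ (by simpa using hθ) y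
  rw [show ((⟨_, Chars.isIrrCharacter_hom_mul κ θ.2⟩ : IrrCharacter L) : L → ℂ) =
    fun g => (κ g : ℂ) * (θ : L → ℂ) g from rfl] at h1
  simp only [h.hinv θ hθ y] at h1
  rw [map_mul, map_inv, Units.ext (mul_right_cancel₀ hy h1), mul_inv_cancel]

theorem eq_one_of_commute (h : Hyp L τ q k s x u w) {c : L} (hc : c ∈ commutator L)
    (hxc : Commute x c) : c = 1 := by
  have hτc : τ (x * c) * (x * c)⁻¹ ∉ commutator L := fun hmem => h.hxτ (by
    have hm1 : τ x * (τ c * c⁻¹) * (τ x)⁻¹ ∈ commutator L :=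
      (inferInstance : (commutator L).Normal).conj_mem _
        ((commutator L).mul_mem (map_mem_commutator τ.toMonoidHom hc)
          ((commutator L).inv_mem hc)) _
    have := (commutator L).mul_mem ((commutator L).inv_mem hm1) hmem
    rwa [map_mul, show (τ x * (τ c * c⁻¹) * (τ x)⁻¹)⁻¹ * (τ x * τ c * (x * c)⁻¹) =
      τ x * x⁻¹ by group] at this)
  have hconj : IsConj x (x * c) := Chars.isConj_iff_irr.mpr fun χ => by
    by_cases h1 : (χ : L → ℂ) 1 = 1
    · rw [CharsElem.map_mul_of_degree_one (Chars.irr_isCharacter χ) h1,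
        linear_apply_commutator χ h1 hc, mul_one]
    · have e1 : (χ : L → ℂ) x = 0 := by_contra fun h0 => h.hxτ (h.vanish χ h1 h0)
      have e2 : (χ : L → ℂ) (x * c) = 0 := by_contra fun h0 => hτc (h.vanish χ h1 h0)
      rw [e1, e2]
  have hord : orderOf (x * c) = s := by
    obtain ⟨g, hg⟩ := isConj_iff.mp hconj
    rw [← hg, ← MulAut.conj_apply, MulEquiv.orderOf_eq, h.hxs]
  have hcop : (orderOf x).Coprime (orderOf c) := by
    rw [h.hxs]
    refine h.hs.coprime_iff_not_dvd.mpr fun hd => h.hsD (hd.trans ?_)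
    rw [← Subgroup.orderOf_mk c hc]
    exact orderOf_dvd_natCard _
  rw [hxc.orderOf_mul_eq_mul_orderOf_of_coprime hcop, h.hxs, Nat.mul_eq_left h.hs.pos.ne'] at hord
  exact orderOf_eq_one_iff.mp hord

theorem inf_centralizer (h : Hyp L τ q k s x u w) {c : L} (hc : c ∈ commutator L)
    (hc' : c ∈ Subgroup.centralizer ({x} : Set L)) : c = 1 :=
  h.eq_one_of_commute hc (Subgroup.mem_centralizer_singleton_iff.mp hc').symm

theorem exists_decomp (h : Hyp L τ q k s x u w) (y : L) :
    ∃ d ∈ commutator L, ∃ e ∈ Subgroup.centralizer ({x} : Set L), y = d * e := by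
  let m : commutator L → commutator L := fun c => ⟨x⁻¹ * c * x * (c : L)⁻¹,
    (commutator L).mul_mem (by simpa using
      (inferInstance : (commutator L).Normal).conj_mem _ c.2 x⁻¹) ((commutator L).inv_mem c.2)⟩
  have hm : Function.Injective m := fun a b hab => by
    have e : x⁻¹ * (a : L) * x * (a : L)⁻¹ = x⁻¹ * (b : L) * x * (b : L)⁻¹ :=
      congrArg Subtype.val hab
    have hc : Commute x ((b : L)⁻¹ * a) := by
      show x * ((b : L)⁻¹ * a) = (b : L)⁻¹ * a * x
      calc x * ((b : L)⁻¹ * a) = (b : L)⁻¹ * x * (x⁻¹ * b * x * (b : L)⁻¹) * a := by group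
        _ = (b : L)⁻¹ * x * (x⁻¹ * a * x * (a : L)⁻¹) * a := by rw [e]
        _ = _ := by group
    exact Subtype.ext (inv_mul_eq_one.mp
      (h.eq_one_of_commute ((commutator L).mul_mem ((commutator L).inv_mem b.2) a.2) hc)).symm
  obtain ⟨⟨c, hc⟩, hcy⟩ := (Finite.injective_iff_surjective.mp hm)
    ⟨x⁻¹ * y * x * y⁻¹, by
      have := Subgroup.commutator_mem_commutator (Subgroup.mem_top x⁻¹) (Subgroup.mem_top y)
      rw [commutatorElement_def, inv_inv] at this
      exact this⟩
  refine ⟨c, hc, c⁻¹ * y, Subgroup.mem_centralizer_singleton_iff.mpr ?_, (mul_inv_cancel_left c y).symm⟩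
  have e : x⁻¹ * c * x * c⁻¹ = x⁻¹ * y * x * y⁻¹ := congrArg Subtype.val hcy
  calc c⁻¹ * y * x = c⁻¹ * x * (x⁻¹ * y * x * y⁻¹) * y := by group
    _ = c⁻¹ * x * (x⁻¹ * c * x * c⁻¹) * y := by rw [e]
    _ = _ := by group

theorem centralizer_comm (h : Hyp L τ q k s x u w) {a b : L}
    (ha : a ∈ Subgroup.centralizer ({x} : Set L)) (hb : b ∈ Subgroup.centralizer ({x} : Set L)) :
    Commute a b := by
  have hc : ⁅a, b⁆ ∈ Subgroup.centralizer ({x} : Set L) := by
    rw [commutatorElement_def]
    exact Subgroup.mul_mem _ (Subgroup.mul_mem _ (Subgroup.mul_mem _ ha hb)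
      (Subgroup.inv_mem _ ha)) (Subgroup.inv_mem _ hb)
  exact commutatorElement_eq_one_iff_mul_comm.mp (h.inf_centralizer
    (Subgroup.commutator_mem_commutator (Subgroup.mem_top a) (Subgroup.mem_top b)) hc)

/-- The component in the derived group. -/
theorem exists_proj (h : Hyp L τ q k s x u w) : ∃ π : L → commutator L,
    ∀ y, (π y : L)⁻¹ * y ∈ Subgroup.centralizer ({x} : Set L) := by
  refine ⟨fun y => ⟨(h.exists_decomp y).choose, (h.exists_decomp y).choose_spec.1⟩, fun y => ?_⟩
  obtain ⟨e, he, hye⟩ := (h.exists_decomp y).choose_spec.2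
  show (h.exists_decomp y).choose⁻¹ * y ∈ _
  rw [show (h.exists_decomp y).choose⁻¹ * y = e from inv_mul_eq_iff_eq_mul.mpr hye]
  exact he

theorem rho_comm (h : Hyp L τ q k s x u w) (a b : L) : Commute (rho L a) (rho L b) := by
  obtain ⟨d, hd, a', ha, rfl⟩ := h.exists_decomp a
  obtain ⟨e, he, b', hb, rfl⟩ := h.exists_decomp b
  rw [map_mul, map_mul, rho_eq_one_of_mem hd, rho_eq_one_of_mem he, one_mul, one_mul]
  exact (h.centralizer_comm ha hb).map _

/-- The stabiliser of a non-trivial linear character of the derived group: degree and fixed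
elements. -/
theorem stabilizer_facts (h : Hyp L τ q k s x u w) (ν : Dual L) (hν : ν ≠ 1) (T : Subgroup L)
    (hT : ∀ l, l ∈ T ↔ rho L l ν = ν) :
    T ≠ ⊤ ∧ (∃ θ : IrrCharacter L, (θ : L → ℂ) 1 = (T.index : ℂ)) ∧
      ∀ l ∈ T, rho L (τ l) = rho L l := by
  classical
  obtain ⟨π, hπ⟩ := h.exists_proj
  have := Fintype.ofFinite T
  have := Fintype.ofFinite (commutator L)
  have huniq : ∀ (y : L) (d : commutator L), (d : L)⁻¹ * y ∈ Subgroup.centralizer ({x} : Set L) →
      π y = d := fun y d hd => by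
    have := h.inf_centralizer ((commutator L).mul_mem ((commutator L).inv_mem d.2) (π y).2) (by
      have h1 := Subgroup.mul_mem _ hd (Subgroup.inv_mem _ (hπ y))
      rwa [show (d : L)⁻¹ * y * ((π y : L)⁻¹ * y)⁻¹ = (d : L)⁻¹ * (π y : L) by group] at h1)
    exact Subtype.ext (inv_mul_eq_one.mp this).symm
  have hπd : ∀ d : commutator L, π d = d := fun d => huniq _ _ (by simp)
  have hπH : ∀ e : L, e ∈ Subgroup.centralizer ({x} : Set L) → π e = 1 := fun e he =>
    huniq _ _ (by simpa using he)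
  have hDT : commutator L ≤ T := fun d hd => (hT d).mpr (by rw [rho_eq_one_of_mem hd]; rfl)
  let f : T →* ℂˣ := MonoidHom.mk' (fun t => ν (π t)) fun a b => by
    set d₁ := π (a : L) with hd₁
    set e₁ := (d₁ : L)⁻¹ * a
    set d₂ := π (b : L)
    have he₁ : e₁ ∈ T := T.mul_mem (T.inv_mem (hDT d₁.2)) a.2
    let d₂' : commutator L := ⟨e₁ * d₂ * e₁⁻¹,
      (inferInstance : (commutator L).Normal).conj_mem _ d₂.2 e₁⟩
    have e : π ((a * b : T) : L) = d₁ * d₂' := huniq _ _ (by
      have h1 := Subgroup.mul_mem _ (hπ (a : L)) (hπ (b : L))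
      convert h1 using 1
      simp only [Subgroup.coe_mul, d₂', e₁]
      group
      try rfl)
    show ν (π ((a * b : T) : L)) = ν d₁ * ν d₂
    rw [e, map_mul]
    congr 1
    have h2 := DFunLike.congr_fun ((hT e₁).mp he₁) d₂'
    rw [rho_apply] at h2
    rw [← h2]
    congr 1
    exact Subtype.ext (by simp only [d₂']; group)
  have hfD : ∀ (d : commutator L) (hd : (d : L) ∈ T), f ⟨d, hd⟩ = ν d := fun d hd =>
    show ν (π (d : L)) = ν d by rw [hπd]
  have htop : T ≠ ⊤ := by
    intro htop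
    refine hν (MonoidHom.ext fun d => ?_)
    rw [← hfD d (hDT d.2), MonoidHom.one_apply]
    exact hom_apply_eq_one (f.comp ((MonoidHom.id L).codRestrict T fun l => htop ▸ Subgroup.mem_top l))
      d.2
  have hT' : ∀ l, l ∈ T ↔ Clifford.conjFun l (dfun ν) = dfun ν := fun l => by
    rw [conjFun_dfun, dfun_injective.eq_iff, hT, map_inv]
    constructor <;> intro e
    · conv_lhs => rw [← e, ← MulAut.mul_apply, inv_mul_cancel, MulAut.one_apply]
    · conv_lhs => rw [← e, ← MulAut.mul_apply, mul_inv_cancel, MulAut.one_apply]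
  have hres : Clifford.resTo hDT (fun t : T => (f t : ℂ)) = dfun ν :=
    funext fun d => congrArg Units.val (hfD d _)
  have hirr := Clifford.isIrrCharacter_indFun_inertia (isIrr_dfun ν) hT' hDT
    (Chars.isIrrCharacter_of_hom f) (by
      rw [hres, show classInner (dfun ν) (dfun ν) = 1 from
        Chars.classInner_irr_self ⟨_, isIrr_dfun ν⟩]
      exact one_ne_zero)
  set F : IrrCharacter L := ⟨_, hirr⟩
  have hF1 : (F : L → ℂ) 1 = (T.index : ℂ) := by
    show indFun T (fun t : T => (f t : ℂ)) 1 = _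
    rw [Chars.indFun_one_eq, map_one, Units.val_one, mul_one]
  refine ⟨htop, ⟨F, hF1⟩, fun l hl => ?_⟩
  obtain ⟨e, he0⟩ : ∃ e, e = (π l : L)⁻¹ * l := ⟨_, rfl⟩
  have he : e ∈ Subgroup.centralizer ({x} : Set L) := he0 ▸ hπ l
  have heT : e ∈ T := he0 ▸ T.mul_mem (T.inv_mem (hDT (π l).2)) hl
  have hF : (F : L → ℂ) e = (T.index : ℂ) := by
    have hmem : ∀ g : L, g⁻¹ * e * g ∈ T ∧
        ∀ hg : g⁻¹ * e * g ∈ T, f ⟨g⁻¹ * e * g, hg⟩ = f ⟨e, heT⟩ := fun g => by
      obtain ⟨d, hd, g', hg', hgg⟩ := h.exists_decomp g⁻¹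
      have e1 : g⁻¹ * e * g = d * e * d⁻¹ := by
        rw [show g = (g⁻¹)⁻¹ from (inv_inv g).symm, inv_inv g⁻¹, hgg, mul_inv_rev,
          show d * g' * e * (g'⁻¹ * d⁻¹) = d * (g' * e) * g'⁻¹ * d⁻¹ by group,
          (h.centralizer_comm hg' he).eq]
        group
      refine ⟨e1 ▸ T.mul_mem (T.mul_mem (hDT hd) heT) (T.inv_mem (hDT hd)), fun hg => ?_⟩
      rw [show (⟨g⁻¹ * e * g, hg⟩ : T) = ⟨d, hDT hd⟩ * ⟨e, heT⟩ * ⟨d, hDT hd⟩⁻¹
        from Subtype.ext e1, map_mul, map_mul, map_inv, mul_comm, inv_mul_cancel_left]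
    show indFun T (fun t : T => (f t : ℂ)) e = _
    rw [indFun_eq_index_mul T _ (c := 1) (fun g => (hmem g).1) (fun g => by
      rw [(hmem g).2, show f ⟨e, heT⟩ = ν (π e) from rfl, hπH e he, map_one, Units.val_one]),
      mul_one]
  have hmem := h.vanish F (by
    rw [hF1]; exact_mod_cast fun h1 => htop (Subgroup.index_eq_one.mp h1)) (y := e) (by
    rw [hF]; exact Nat.cast_ne_zero.mpr Subgroup.index_ne_zero_of_finite)
  have hle : l = (π l : L) * e := by rw [he0, mul_inv_cancel_left]
  have h1 : rho L (τ e) = rho L e := by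
    have := rho_eq_one_of_mem hmem
    rwa [map_mul, map_inv, mul_inv_eq_one] at this
  rw [hle, map_mul, map_mul, map_mul, h1, rho_eq_one_of_mem (π l).2,
    rho_eq_one_of_mem (show τ (π l : L) ∈ commutator L from
      map_mem_commutator τ.toMonoidHom (π l).2)]

end Hyp

end Cfsg.Agent.Lib.NoDivDeg
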